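import Cfsg.Agent.Lib.Lead.StMult.Fam
import Cfsg.Agent.Lib.Helper5.UC.Main
import Cfsg.Agent.Lib.Helper5.UC.Mult
import Cfsg.Agent.Lib.Helper5.MS.FiniteCover
import Cfsg.Agent.H1.StemMeta
import Mathlib

/-!
# The group presented by (R1), (R2) is centrally closed, if the relations lift (lead)

The formal part of Steinberg's theorem: if in every central extension of the Chevalley group there
are lifts of the root elements which satisfy (R1), (R2), and the group presented by (R1), (R2) is
perfect, then this group is centrally closed; over a finite field the group presented by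
(R1)–(R3) then has no non-trivial stem extension.
-/

set_option autoImplicit false

namespace Cfsg.Agent.StMult

open Cfsg.Lie Cfsg.Agent.Lib.Helper5.Chev Cfsg.Agent.Lib.Helper5.St Cfsg.Agent.Lib.Helper5.Tw
  Cfsg.Agent.Lib.Helper5.UC
open scoped commutatorElement

universe u v w

section universal

variable {K : Type u} [Field K] {D : ChevalleyDatum}

/-- in every central extension of the Chevalley group (in the given universe) the relations
(R1), (R2) lift -/
def Lifts (K : Type u) [Field K] (D : ChevalleyDatum) : Prop :=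
  ∀ (E : Type (max v u)) [Group E] (X : Ext0 K D E), ∃ Y : ℕ → K → E,
    (∀ r < D.nroots, ∀ t : K, X.Ψ (Y r t) = X.hadd.xU r t) ∧ (∀ r < D.nroots, Rel1 Y r) ∧
      ∀ r < D.nroots, ∀ s < D.nroots, s ≠ r → s ≠ D.neg r → Rel2 Y D r s

/-- Steinberg: the group presented by (R1), (R2) is centrally closed, if it is perfect and the
relations lift to the central extensions of the Chevalley group -/
theorem cover_universal_of_lifts {T : FD} {Bs : List ℕ} {gH : ℕ} {baseH : List ℕ} {fuel : ℕ}
    (U : UCtx K D T Bs gH baseH fuel) (hperfΔ : commutator (D.SteinbergCover K) = ⊤)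
    (hL : Lifts.{u, v} K D)
    {G₁ : Type w} {E : Type v} [Group G₁] [Group E] (π₁ : E →* G₁) (hπ : Function.Surjective π₁)
    (hc : π₁.ker ≤ Subgroup.center E) (σ : D.SteinbergCover K →* G₁) :
    ∃! τ : D.SteinbergCover K →* E, π₁.comp τ = σ := by
  classical
  have hD := U.C.hD
  have hπc : ∀ z : E, π₁ z = 1 → ∀ m : E, z * m = m * z := by
    intro z hz m
    exact (Subgroup.mem_center_iff.1 (hc (MonoidHom.mem_ker.2 hz)) m).symm
  have hθc : ∀ z : D.SteinbergCover K, (coverRData (K := K) hD).θ z = 1 →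
      ∀ m : D.SteinbergCover K, z * m = m * z := by
    intro z hz m
    exact (Subgroup.mem_center_iff.1
      ((coverRData (K := K) hD).ker_le_center U.C (MonoidHom.mem_ker.2 hz)) m).symm
  -- uniqueness
  have huniq : ∀ τ τ' : D.SteinbergCover K →* E, π₁.comp τ = σ → π₁.comp τ' = σ → τ = τ' := by
    intro τ τ' h h'
    exact hom_eq_of_perfect hperfΔ τ τ' π₁ hπc (h.trans h'.symm)
  -- the pullback
  let P : Subgroup (E × D.SteinbergCover K) :=
    (π₁.comp (MonoidHom.fst E (D.SteinbergCover K))).eqLocus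
      (σ.comp (MonoidHom.snd E (D.SteinbergCover K)))
  have hP : ∀ p : ↥P, π₁ p.1.1 = σ p.1.2 := fun p => p.2
  let ψ₀ : ↥P →* D.SteinbergCover K := (MonoidHom.snd E (D.SteinbergCover K)).comp P.subtype
  have hψ₀ : ∀ p : ↥P, ψ₀ p = p.1.2 := fun p => rfl
  have hsurj₀ : Function.Surjective ψ₀ := by
    intro d
    obtain ⟨e, he⟩ := hπ (σ d)
    exact ⟨⟨(e, d), he⟩, rfl⟩
  have hcentral₀ : ∀ z : ↥P, ψ₀ z = 1 → ∀ p : ↥P, z * p = p * z := by
    intro z hz p
    rw [hψ₀] at hz
    have h1 : π₁ z.1.1 = 1 := by rw [hP z, hz, map_one]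
    apply Subtype.ext
    apply Prod.ext
    · exact hπc _ h1 _
    · show z.1.2 * p.1.2 = p.1.2 * z.1.2
      rw [hz, one_mul, mul_one]
  have hperfP' : commutator ↥(commutator ↥P) = ⊤ :=
    commutator_perfect hperfΔ ψ₀ hsurj₀ hcentral₀
  let ψ : ↥(commutator ↥P) →* D.SteinbergCover K := ψ₀.comp (commutator ↥P).subtype
  have hψsurj : ∀ d : D.SteinbergCover K, ∃ p : ↥(commutator ↥P), ψ p = d := by
    intro d
    obtain ⟨p, hp, e⟩ := commutator_surjective hperfΔ ψ₀ hsurj₀ d
    exact ⟨⟨p, hp⟩, e⟩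
  have hψc : ∀ z : ↥(commutator ↥P), ψ z = 1 → ∀ p : ↥(commutator ↥P), z * p = p * z := by
    intro z hz p
    apply Subtype.ext
    exact hcentral₀ z.1 hz p.1
  have hΨc := central_comp_of_perfect hperfP' ψ (coverRData (K := K) hD).θ hψc hθc
  have hΨsurj : ∀ g ∈ D.group K, ∃ e : ↥(commutator ↥P),
      ((coverRData (K := K) hD).θ.comp ψ) e = g := by
    intro g hg
    obtain ⟨d, hd⟩ := (coverRData (K := K) hD).thetaG_surjective ⟨g, hg⟩
    obtain ⟨p, hp⟩ := hψsurj d
    refine ⟨p, ?_⟩
    rw [MonoidHom.comp_apply, hp, ← (coverRData (K := K) hD).thetaG_val, hd]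
  let X : Ext0 K D ↥(commutator ↥P) :=
    ⟨hD, (coverRData (K := K) hD).θ.comp ψ, hΨsurj, hΨc⟩
  obtain ⟨Y, h1, h2, h3⟩ := hL ↥(commutator ↥P) X
  obtain ⟨τ₀, hτ₀⟩ := exists_hom_of_rel Y U.C.hA h2 h3
  have hcomp : (coverRData (K := K) hD).θ.comp (ψ.comp τ₀)
      = (coverRData (K := K) hD).θ.comp (MonoidHom.id (D.SteinbergCover K)) := by
    apply MonoidHom.eq_of_eqOn_dense (coverRData (K := K) hD).gen
    rintro g ⟨r, hr, t, rfl⟩
    show (coverRData (K := K) hD).θ (ψ (τ₀ ((coverRData (K := K) hD).X r t)))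
      = (coverRData (K := K) hD).θ ((coverRData (K := K) hD).X r t)
    rw [coverRData_X, hτ₀ r hr t, ← coverRData_X hD, (coverRData (K := K) hD).hθ r hr t]
    exact h1 r hr t
  have hid : ψ.comp τ₀ = MonoidHom.id (D.SteinbergCover K) :=
    hom_eq_of_perfect hperfΔ _ _ (coverRData (K := K) hD).θ hθc hcomp
  let τ : D.SteinbergCover K →* E :=
    (MonoidHom.fst E (D.SteinbergCover K)).comp (P.subtype.comp ((commutator ↥P).subtype.comp τ₀))
  have hτ : π₁.comp τ = σ := by
    apply MonoidHom.ext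
    intro d
    show π₁ (τ₀ d).1.1.1 = σ d
    rw [hP (τ₀ d).1]
    have := DFunLike.congr_fun hid d
    exact congrArg σ this
  exact ⟨τ, hτ, fun τ' hτ' => huniq τ' τ hτ' hτ⟩

end universal

section stem

variable {K : Type u} [Field K] {D : ChevalleyDatum}

/-- a stem extension of a group which is the image of a centrally closed group under an
isomorphism is trivial -/
theorem stem_ker_eq_bot_of_universal {Δ G : Type*} [Group Δ] [Group G] (e : Δ ≃* G)
    {Γ : Type v} [Group Γ] (σ : Γ →* G)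
    (huniv : ∃ τ : Δ →* Γ, σ.comp τ = e.toMonoidHom)
    (hc : σ.ker ≤ Subgroup.center Γ) (hder : σ.ker ≤ commutator Γ) : σ.ker = ⊥ := by
  obtain ⟨τ, hτ⟩ := huniv
  apply ker_eq_bot_of_section σ (τ.comp e.symm.toMonoidHom) ?_ hc hder
  intro g
  have := DFunLike.congr_fun hτ (e.symm g)
  simp only [MonoidHom.comp_apply, MulEquiv.coe_toMonoidHom, MulEquiv.apply_symm_apply] at this ⊢
  exact this

/-- the group presented by (R1)–(R3) over a finite field has trivial Schur multiplier, if the
group presented by (R1), (R2) is centrally closed -/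
theorem multiplier_trivial_of_universal [Finite K]
    (hD : D ∈ [chevG2, chevB2, chevD4, chevF4, chevE6, chevE7, chevE8])
    (huniv : ∀ {Γ : Type u} [Group Γ] (σ : Γ →* D.SteinbergGroup K), Function.Surjective σ →
      σ.ker ≤ Subgroup.center Γ → ∀ ρ : D.SteinbergCover K →* D.SteinbergGroup K,
        ∃ τ : D.SteinbergCover K →* Γ, σ.comp τ = ρ) :
    Cfsg.HasCyclicSchurMultiplier (D.SteinbergGroup K) 1 := by
  have hfin : Finite (D.SteinbergGroup K) := Cfsg.Agent.Lib.Helper5.MS.finite_steinbergGroup hD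
  obtain ⟨e, -⟩ := cover_equiv (K := K) hD
  apply Cfsg.Agent.H1.hasCyclicSchurMultiplier_one_of_ker_eq_bot
  intro Γ _ _ σ hσ
  obtain ⟨hs, hc, hder⟩ := hσ
  exact stem_ker_eq_bot_of_universal e σ (huniv σ hs hc e.toMonoidHom) hc hder

end stem

end Cfsg.Agent.StMult
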