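import Cfsg.Agent.Lib.Lead.StMult.Checks
import Cfsg.Agent.Lib.Lead.StMult.Univ
import Cfsg.Agent.Lib.Helper5.UC.DtAll
import Mathlib

/-!
# Type `B₂` in characteristic two: the relations lift to the central extensions (lead)

The commutator formula of a long and a short root has two terms; a root element of the long term
is a product of two commutators, which gives the commutation of the lifts of the elements of one
root subgroup.
-/

set_option autoImplicit false
set_option maxRecDepth 100000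

namespace Cfsg.Agent.StMult

open Cfsg.Lie Cfsg.Agent.Lib.Helper5.Chev Cfsg.Agent.Lib.Helper5.St Cfsg.Agent.Lib.Helper5.Tw
  Cfsg.Agent.Lib.Helper5.UC
open scoped commutatorElement

universe u v

namespace Ext0

variable {K : Type*} [Field K] {D : ChevalleyDatum} {E : Type*} [Group E] (X : Ext0 K D E)

/-- the commutator formula with two terms, for the root elements -/
theorem x_two {g d s1 s2 : ℕ} {c1 c2 : ℤ} (hg : g < D.nroots) (hd : d < D.nroots) (hne : d ≠ g)
    (hneg : d ≠ D.neg g) (hterms : D.commTerms g d = [(s1, c1, 1, 1), (s2, c2, 1, 2)])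
    (t u : K) :
    ⁅(X.x d u)⁻¹, (X.x g t)⁻¹⁆
      = X.x s1 (-((c1 : ℤ) : K) * t * u) * X.x s2 (-((c2 : ℤ) : K) * t * u ^ 2) := by
  have key : X.x d u * X.x g t = X.x g t * X.x d u *
      (X.x s1 (-((c1 : ℤ) : K) * t * u) * X.x s2 (-((c2 : ℤ) : K) * t * u ^ 2)) := by
    apply Units.ext
    rw [Units.val_mul, Units.val_mul, Units.val_mul, Units.val_mul]
    have := comm_formula (F := K) D X.hD g d hg hd hne hneg t u
    unfold ChevalleyDatum.commWord at this
    rw [hterms] at this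
    show D.x K d u * D.x K g t = D.x K g t * D.x K d u *
      (D.x K s1 (-((c1 : ℤ) : K) * t * u) * D.x K s2 (-((c2 : ℤ) : K) * t * u ^ 2))
    rw [this, List.map_cons, List.map_cons, List.map_nil]
    unfold ChevalleyDatum.wordMat
    rw [List.map_cons, List.map_cons, List.map_nil, List.prod_cons, List.prod_cons, List.prod_nil,
      mul_one]
    congr 2
    · congr 1
      ring
    · congr 1
      ring
  rw [commutatorElement_def]
  have : X.x s1 (-((c1 : ℤ) : K) * t * u) * X.x s2 (-((c2 : ℤ) : K) * t * u ^ 2)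
      = (X.x g t * X.x d u)⁻¹ * (X.x d u * X.x g t) := by
    rw [key]
    group
  rw [this]
  group

/-- lifts of the elements of the root subgroup of `r` commute with the lifts of the elements of
the root subgroup of the second term of a commutator formula with two terms, if the root subgroup
of `r` commutes with the two root subgroups of the formula -/
theorem lc_of_two {r g d s1 s2 : ℕ} {c1 c2 : ℤ} (hg : g < D.nroots) (hd : d < D.nroots)
    (hne : d ≠ g) (hneg : d ≠ D.neg g)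
    (hterms : D.commTerms g d = [(s1, c1, 1, 1), (s2, c2, 1, 2)])
    (h12 : ∀ t u : K, X.x s1 t * X.x s2 u = X.x s2 u * X.x s1 t)
    (hrg : ∀ t u : K, X.x r t * X.x g u = X.x g u * X.x r t)
    (hrd : ∀ t u : K, X.x r t * X.x d u = X.x d u * X.x r t)
    (c : K) (hc0 : c ≠ 0) (hc1 : c ≠ 1) (hc2 : ((c2 : ℤ) : K) ≠ 0) : X.LC r s2 := by
  intro b b' t₀ w hb hb'
  have hc1' : c - 1 ≠ 0 := sub_ne_zero.2 hc1
  obtain ⟨t, ht⟩ : ∃ t : K, t = w / (((c2 : ℤ) : K) * (c - 1)) := ⟨_, rfl⟩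
  obtain ⟨Lg, hLg⟩ := X.lift_x g t
  obtain ⟨Lg', hLg'⟩ := X.lift_x g (-t / c)
  obtain ⟨Ld, hLd⟩ := X.lift_x d 1
  obtain ⟨Ld', hLd'⟩ := X.lift_x d c
  have hcomm : ∀ (G Dd : E) (a a' : K), X.Ψ G = X.x g a → X.Ψ Dd = X.x d a' →
      Commute b ⁅Dd⁻¹, G⁻¹⁆ := by
    intro G Dd a a' hG hDd
    apply X.commute_comm'
    · rw [map_inv, hb, hDd, ← X.x_neg]
      exact hrd _ _
    · rw [map_inv, hb, hG, ← X.x_neg]
      exact hrg _ _
  have e1 : X.Ψ (⁅Ld⁻¹, Lg⁻¹⁆ * ⁅Ld'⁻¹, Lg'⁻¹⁆) = X.x s2 w := by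
    rw [map_mul, map_commutatorElement, map_commutatorElement, map_inv, map_inv, map_inv, map_inv,
      hLg, hLg', hLd, hLd', X.x_two hg hd hne hneg hterms, X.x_two hg hd hne hneg hterms]
    have e2 : X.x s1 (-((c1 : ℤ) : K) * t * 1) * X.x s2 (-((c2 : ℤ) : K) * t * 1 ^ 2) *
        (X.x s1 (-((c1 : ℤ) : K) * (-t / c) * c) * X.x s2 (-((c2 : ℤ) : K) * (-t / c) * c ^ 2))
        = (X.x s1 (-((c1 : ℤ) : K) * t * 1) * X.x s1 (-((c1 : ℤ) : K) * (-t / c) * c)) *
          (X.x s2 (-((c2 : ℤ) : K) * t * 1 ^ 2) * X.x s2 (-((c2 : ℤ) : K) * (-t / c) * c ^ 2)) := by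
      have hsw := h12 (-((c1 : ℤ) : K) * (-t / c) * c) (-((c2 : ℤ) : K) * t * 1 ^ 2)
      calc X.x s1 (-((c1 : ℤ) : K) * t * 1) * X.x s2 (-((c2 : ℤ) : K) * t * 1 ^ 2) *
            (X.x s1 (-((c1 : ℤ) : K) * (-t / c) * c) * X.x s2 (-((c2 : ℤ) : K) * (-t / c) * c ^ 2))
          = X.x s1 (-((c1 : ℤ) : K) * t * 1) * (X.x s2 (-((c2 : ℤ) : K) * t * 1 ^ 2) *
            X.x s1 (-((c1 : ℤ) : K) * (-t / c) * c)) * X.x s2 (-((c2 : ℤ) : K) * (-t / c) * c ^ 2) := by
            group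
        _ = X.x s1 (-((c1 : ℤ) : K) * t * 1) * (X.x s1 (-((c1 : ℤ) : K) * (-t / c) * c) *
            X.x s2 (-((c2 : ℤ) : K) * t * 1 ^ 2)) * X.x s2 (-((c2 : ℤ) : K) * (-t / c) * c ^ 2) := by
            rw [hsw]
        _ = _ := by group
    rw [e2, ← X.x_add, ← X.x_add]
    have e3 : -((c1 : ℤ) : K) * t * 1 + -((c1 : ℤ) : K) * (-t / c) * c = 0 := by
      field_simp
      ring
    have e4 : -((c2 : ℤ) : K) * t * 1 ^ 2 + -((c2 : ℤ) : K) * (-t / c) * c ^ 2 = w := by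
      rw [ht]
      field_simp
      ring
    rw [e3, e4, X.x_zero', one_mul]
  have hcm : Commute b (⁅Ld⁻¹, Lg⁻¹⁆ * ⁅Ld'⁻¹, Lg'⁻¹⁆) :=
    (hcomm Lg Ld _ _ hLg hLd).mul_right (hcomm Lg' Ld' _ _ hLg' hLd')
  have hz : X.Ψ ((⁅Ld⁻¹, Lg⁻¹⁆ * ⁅Ld'⁻¹, Lg'⁻¹⁆)⁻¹ * b') = 1 := by
    rw [map_mul, map_inv, e1, hb', inv_mul_cancel]
  have hzc : Commute b ((⁅Ld⁻¹, Lg⁻¹⁆ * ⁅Ld'⁻¹, Lg'⁻¹⁆)⁻¹ * b') := (X.hc _ hz b).symm
  have e : b' = (⁅Ld⁻¹, Lg⁻¹⁆ * ⁅Ld'⁻¹, Lg'⁻¹⁆) * ((⁅Ld⁻¹, Lg⁻¹⁆ * ⁅Ld'⁻¹, Lg'⁻¹⁆)⁻¹ * b') := by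
    group
  rw [e]
  exact hcm.mul_right hzc

/-- lifts of the elements of the root subgroup of `r` commute with the lifts of the elements of
the root subgroup of the first term of a commutator formula with two terms, if they commute with
those of the second term and the root subgroup of `r` commutes with the two root subgroups of the
formula -/
theorem lc_of_first {r g d s1 s2 : ℕ} {c1 c2 : ℤ} (hg : g < D.nroots) (hd : d < D.nroots)
    (hne : d ≠ g) (hneg : d ≠ D.neg g)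
    (hterms : D.commTerms g d = [(s1, c1, 1, 1), (s2, c2, 1, 2)])
    (hrg : ∀ t u : K, X.x r t * X.x g u = X.x g u * X.x r t)
    (hrd : ∀ t u : K, X.x r t * X.x d u = X.x d u * X.x r t)
    (hlc : X.LC r s2) (hc1 : ((c1 : ℤ) : K) ≠ 0) : X.LC r s1 := by
  intro b b' t₀ w hb hb'
  obtain ⟨t, ht⟩ : ∃ t : K, t = -w / ((c1 : ℤ) : K) := ⟨_, rfl⟩
  obtain ⟨Lg, hLg⟩ := X.lift_x g t
  obtain ⟨Ld, hLd⟩ := X.lift_x d 1
  obtain ⟨L2, hL2⟩ := X.lift_x s2 (-((c2 : ℤ) : K) * t * 1 ^ 2)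
  have hcm : Commute b ⁅Ld⁻¹, Lg⁻¹⁆ := by
    apply X.commute_comm'
    · rw [map_inv, hb, hLd, ← X.x_neg]
      exact hrd _ _
    · rw [map_inv, hb, hLg, ← X.x_neg]
      exact hrg _ _
  have hcm2 : Commute b L2 := hlc b L2 _ _ hb hL2
  have e1 : X.Ψ (⁅Ld⁻¹, Lg⁻¹⁆ * L2⁻¹) = X.x s1 w := by
    rw [map_mul, map_commutatorElement, map_inv, map_inv, map_inv, hLg, hLd, hL2,
      X.x_two hg hd hne hneg hterms, mul_inv_cancel_right]
    congr 1
    rw [ht]
    field_simp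
  have hz : X.Ψ ((⁅Ld⁻¹, Lg⁻¹⁆ * L2⁻¹)⁻¹ * b') = 1 := by
    rw [map_mul, map_inv, e1, hb', inv_mul_cancel]
  have hzc : Commute b ((⁅Ld⁻¹, Lg⁻¹⁆ * L2⁻¹)⁻¹ * b') := (X.hc _ hz b).symm
  have e : b' = (⁅Ld⁻¹, Lg⁻¹⁆ * L2⁻¹) * ((⁅Ld⁻¹, Lg⁻¹⁆ * L2⁻¹)⁻¹ * b') := by group
  rw [e]
  exact (hcm.mul_right hcm2.inv_right).mul_right hzc

/-- two root subgroups whose commutator formula has one term with an even coefficient commute in
characteristic two -/
theorem x_comm_of_even {r s l : ℕ} {c : ℤ} (h2 : (2 : K) = 0) (hr : r < D.nroots)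
    (hs : s < D.nroots) (hne : s ≠ r) (hneg : s ≠ D.neg r)
    (hterms : D.commTerms r s = [(l, 2 * c, 1, 1)]) (t u : K) :
    X.x r t * X.x s u = X.x s u * X.x r t := by
  apply Units.ext
  rw [Units.val_mul, Units.val_mul]
  have := comm_formula (F := K) D X.hD r s hr hs hne hneg t u
  unfold ChevalleyDatum.commWord at this
  rw [hterms] at this
  show D.x K r t * D.x K s u = D.x K s u * D.x K r t
  rw [this, List.map_cons, List.map_nil]
  unfold ChevalleyDatum.wordMat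
  rw [List.map_cons, List.map_nil, List.prod_cons, List.prod_nil, mul_one]
  have e : (((2 * c : ℤ) : ℤ) : K) * (-t) ^ 1 * u ^ 1 = 0 := by
    push_cast
    rw [h2]
    ring
  simp only [e]
  have h0 : D.x K l 0 = 1 := by
    have := X.x_zero' l
    exact congrArg Units.val this
  rw [h0, mul_one]

end Ext0

/-! ### type `B₂` -/

theorem b2_posTorus_two : posTorusb chevB2 true = true := by decide +kernel

theorem b2_simple : chevB2.simple 0 = 5 ∧ chevB2.simple 1 = 4 := by decide +kernel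

theorem b2_terms72 : chevB2.commTerms 7 2 = [(6, -1, 1, 1), (4, -1, 1, 2)] := by decide +kernel

theorem b2_terms36 : chevB2.commTerms 3 6 = [(5, 1, 1, 1), (7, 1, 1, 2)] := by decide +kernel

theorem b2_terms56 : chevB2.commTerms 5 6 = [(7, 2 * 1, 1, 1)] := by decide +kernel

theorem b2_comm0 : comm0b DataB2.fd 6 4 = true ∧ comm0b DataB2.fd 7 4 = true ∧
    comm0b DataB2.fd 2 4 = true ∧ comm0b DataB2.fd 3 5 = true ∧ comm0b DataB2.fd 5 7 = true ∧
    comm0b DataB2.fd 7 5 = true := by decide +kernel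

section

variable {K : Type u} [Field K] {E : Type v} [Group E] (X : Ext0 K chevB2 E)

/-- type `B₂`: the lifts of the elements of the root subgroup of the long fundamental root
commute -/
theorem sr_B2_long (c : K) (hc0 : c ≠ 0) (hc1 : c ≠ 1) : X.SR 4 := by
  have hA := (DtB2.uctx K).C.hA
  apply X.lc_of_two (r := 4) (g := 7) (d := 2) (by decide) (by decide) (by decide)
    (by decide +kernel) b2_terms72 ?_ ?_ ?_ c hc0 hc1 (by simp)
  · intro t u
    exact (X.x_comm_of (comm0b_spec hA b2_comm0.1) t u).symm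
  · intro t u
    exact X.x_comm_of (comm0b_spec hA b2_comm0.2.1) u t
  · intro t u
    exact X.x_comm_of (comm0b_spec hA b2_comm0.2.2.1) u t

/-- type `B₂`, characteristic two: the lifts of the elements of the root subgroup of the short
fundamental root commute -/
theorem sr_B2_short (h2 : (2 : K) = 0) (c : K) (hc0 : c ≠ 0) (hc1 : c ≠ 1) : X.SR 5 := by
  have hA := (DtB2.uctx K).C.hA
  have h53 : ∀ t u : K, X.x 5 t * X.x 3 u = X.x 3 u * X.x 5 t := fun t u =>
    X.x_comm_of (comm0b_spec hA b2_comm0.2.2.2.1) u t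
  have h56 : ∀ t u : K, X.x 5 t * X.x 6 u = X.x 6 u * X.x 5 t := fun t u =>
    X.x_comm_of_even h2 (by decide) (by decide) (by decide) (by decide +kernel) b2_terms56 t u
  have h57 : ∀ t u : K, X.x 5 t * X.x 7 u = X.x 7 u * X.x 5 t := fun t u =>
    (X.x_comm_of (comm0b_spec hA b2_comm0.2.2.2.2.1) t u).symm
  have hlc : X.LC 5 7 :=
    X.lc_of_two (r := 5) (g := 3) (d := 6) (by decide) (by decide) (by decide)
      (by decide +kernel) b2_terms36 h57 h53 h56 c hc0 hc1 (by simp)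
  exact X.lc_of_first (r := 5) (g := 3) (d := 6) (by decide) (by decide) (by decide)
    (by decide +kernel) b2_terms36 h53 h56 hlc (by simp)

end

/-- type `B₂`: the relations lift to the central extensions, in characteristic two with more than
two scalars -/
theorem lifts_B2_char_two {K : Type u} [Field K] (h2 : (2 : K) = 0) (c : K) (hc0 : c ≠ 0)
    (hc1 : c ≠ 1) : Lifts.{u, v} K chevB2 := by
  intro E _ X
  have hsq : c ^ 2 ≠ 1 := by
    intro e
    apply hc1
    have h3 : (c - 1) ^ 2 = 0 := by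
      have : (c - 1) ^ 2 = c ^ 2 - 2 * c + 1 := by ring
      rw [this, e, h2, zero_mul, sub_zero]
      have : (1 : K) + 1 = 2 := by norm_num
      rw [this, h2]
    exact sub_eq_zero.1 ((pow_eq_zero_iff (two_ne_zero)).1 h3)
  have hP := pfacts_of_check (DtB2.uctx K).C (DtB2.uctx K).pf
  have hSR : ∀ r < chevB2.nroots, X.SR r := by
    apply X.sr_all (DtB2.uctx K).C
    intro j hj
    have hj' : j < 2 := hj
    interval_cases j
    · rw [b2_simple.1]
      exact sr_B2_short X h2 c hc0 hc1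
    · rw [b2_simple.2]
      exact sr_B2_long X c hc0 hc1
  apply X.rel_of_torus (DtB2.uctx K) c hc0 hc1 true (fun _ => hsq) ?_ hSR b2_posTorus_two
  intro r hr
  refine ⟨r, hr, ?_⟩
  rw [hP.self r hr, zpow_ofNat]
  exact hsq

end Cfsg.Agent.StMult
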