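import Cfsg.Agent.Lib.Lead.StMult.Checks
import Cfsg.Agent.Lib.Lead.SLMult.Swap
import Mathlib

/-!
# Lifts of the elements of two commuting root subgroups which are swapped by an element of the
Weyl group commute, over the field with three elements (lead)
-/

set_option autoImplicit false

namespace Cfsg.Agent.StMult

open Cfsg.Lie Cfsg.Agent.Lib.Helper5.Chev Cfsg.Agent.Lib.Helper5.St Cfsg.Agent.Lib.Helper5.Tw
  Cfsg.Agent.Lib.Helper5.UC
open scoped commutatorElement

/-- the elements of a field with three elements -/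
theorem field_three {K : Type*} [Field K] [Fintype K] (h : Fintype.card K = 3) :
    (∀ t : K, t = 0 ∨ t = 1 ∨ t = -1) ∧ (1 : K) + 1 + 1 = 0 := by
  classical
  have h3 : (1 : K) + 1 + 1 = 0 := by
    have := Nat.cast_card_eq_zero K
    rw [h] at this
    have e : ((3 : ℕ) : K) = 1 + 1 + 1 := by norm_num
    rw [← e]
    exact this
  have h2 : (1 : K) ≠ -1 := by
    intro e
    have e2 : (1 : K) + 1 = 0 := by nth_rw 2 [e]; exact add_neg_cancel 1
    rw [e2, zero_add] at h3
    exact one_ne_zero h3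
  refine ⟨fun t => ?_, h3⟩
  have hcard : ({0, 1, -1} : Finset K).card = 3 := by
    rw [Finset.card_insert_of_notMem, Finset.card_insert_of_notMem, Finset.card_singleton]
    · rw [Finset.mem_singleton]
      exact h2
    · rw [Finset.mem_insert, Finset.mem_singleton, not_or]
      exact ⟨zero_ne_one, fun e => one_ne_zero (neg_eq_zero.1 e.symm)⟩
  have huniv : ({0, 1, -1} : Finset K) = Finset.univ := by
    apply Finset.eq_univ_of_card
    rw [hcard, h]
  have := Finset.mem_univ t
  rw [← huniv, Finset.mem_insert, Finset.mem_insert, Finset.mem_singleton] at this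
  exact this

/-- the sign of the action of a word of fundamental reflections on a root element -/
def etaW (Bs : List ℕ) : List ℕ → ℕ → ℤ
  | [], _ => 1
  | i :: L, s => etaOf (Bs.getD i 0) (wW Bs L s) * etaW Bs L s

section word

variable {F : Type*} [Field F] {D : ChevalleyDatum} {T : FD}

theorem conj_word_eta (hA : T.Agrees D) (hadd : AllAdd F D) (Bs : List ℕ)
    (hB : ∀ i < D.rank, ReflChecks T D i (Bs.getD i 0)) (L : List ℕ) (hL : ∀ i ∈ L, i < D.rank)
    (s : ℕ) (hs : s < D.nroots) (t : F) :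
    wW Bs L s < D.nroots ∧
      nWordU hA hadd L * hadd.xU s t * (nWordU hA hadd L)⁻¹
        = hadd.xU (wW Bs L s) (((etaW Bs L s : ℤ) : F) * t) := by
  induction L with
  | nil =>
    refine ⟨hs, ?_⟩
    simp [nWordU, wW, etaW]
  | cons i L ih =>
    have hi := hL i List.mem_cons_self
    obtain ⟨h1, h2⟩ := ih (fun j hj => hL j (List.mem_cons_of_mem _ hj))
    refine ⟨((hB i hi).cert hA).w_lt _ h1, ?_⟩
    have : nWordU hA hadd (i :: L) = nUi hA hadd i * nWordU hA hadd L := by
      simp [nWordU]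
    rw [this, mul_inv_rev]
    calc nUi hA hadd i * nWordU hA hadd L * hadd.xU s t * ((nWordU hA hadd L)⁻¹ * (nUi hA hadd i)⁻¹)
        = nUi hA hadd i * (nWordU hA hadd L * hadd.xU s t * (nWordU hA hadd L)⁻¹) *
            (nUi hA hadd i)⁻¹ := by group
      _ = _ := by
        rw [h2, conjU hA hadd hi (hB i hi) _ h1]
        show hadd.xU (wW Bs (i :: L) s) _ = hadd.xU (wW Bs (i :: L) s) _
        congr 1
        simp only [etaW]
        push_cast
        ring

theorem etaW_sq (hA : T.Agrees D) (Bs : List ℕ)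
    (hB : ∀ i < D.rank, ReflChecks T D i (Bs.getD i 0)) (L : List ℕ) (hL : ∀ i ∈ L, i < D.rank)
    (s : ℕ) (hs : s < D.nroots) :
    wW Bs L s < D.nroots ∧ etaW Bs L s * etaW Bs L s = 1 := by
  induction L with
  | nil => exact ⟨hs, by simp [etaW]⟩
  | cons i L ih =>
    have hi := hL i List.mem_cons_self
    obtain ⟨h1, h2⟩ := ih (fun j hj => hL j (List.mem_cons_of_mem _ hj))
    have hcert := (hB i hi).cert hA
    refine ⟨hcert.w_lt _ h1, ?_⟩
    have h3 := hcert.eta_sq (F := ℚ) _ h1
    have h4 : etaOf (Bs.getD i 0) (wW Bs L s) * etaOf (Bs.getD i 0) (wW Bs L s) = 1 := by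
      have : ((etaOf (Bs.getD i 0) (wW Bs L s) * etaOf (Bs.getD i 0) (wW Bs L s) : ℤ) : ℚ) = 1 := by
        push_cast
        exact h3
      exact_mod_cast this
    simp only [etaW]
    calc etaOf (Bs.getD i 0) (wW Bs L s) * etaW Bs L s *
          (etaOf (Bs.getD i 0) (wW Bs L s) * etaW Bs L s)
        = (etaOf (Bs.getD i 0) (wW Bs L s) * etaOf (Bs.getD i 0) (wW Bs L s)) *
            (etaW Bs L s * etaW Bs L s) := by ring
      _ = 1 := by rw [h4, h2, one_mul]

end word

/-- the check that the word swaps the two roots, with signs whose product is one -/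
def swapb (D : ChevalleyDatum) (Bs : List ℕ) (r s : ℕ) (L : List ℕ) : Bool :=
  L.all (fun i => Nat.blt i D.rank) && Nat.beq (wW Bs L r) s && Nat.beq (wW Bs L s) r &&
    decide (etaW Bs L r * etaW Bs L s = 1)

namespace Ext0

variable {K : Type*} [Field K] {D : ChevalleyDatum} {E : Type*} [Group E] (X : Ext0 K D E)
  {T : FD} {Bs : List ℕ} {gH : ℕ} {baseH : List ℕ} {fuel : ℕ}
  (C : StCtx K D T Bs gH baseH fuel)

include C in
/-- over the field with three elements, the lifts of the elements of two commuting root subgroups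
which are swapped by a word of fundamental reflections commute -/
theorem lc_of_swapWord (hK : ∀ t : K, t = 0 ∨ t = 1 ∨ t = -1) (h3 : (1 : K) + 1 + 1 = 0)
    {r s : ℕ} (hc0 : Comm0 D r s) {L : List ℕ} (hsw : swapb D Bs r s L = true) : X.LC r s := by
  unfold swapb at hsw
  simp only [Bool.and_eq_true, List.all_eq_true, Nat.blt_eq, decide_eq_true_eq] at hsw
  obtain ⟨⟨⟨hL, h1⟩, h2⟩, h4⟩ := hsw
  have h1' : wW Bs L r = s := FD.nbeq.1 h1
  have h2' : wW Bs L s = r := FD.nbeq.1 h2
  have hc0' : Comm0 D r s := hc0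
  obtain ⟨hr, hs, -, -, -⟩ := hc0
  have er := fun t => (conj_word_eta C.hA X.hadd Bs C.hB L hL r hr t).2
  have es := fun t => (conj_word_eta C.hA X.hadd Bs C.hB L hL s hs t).2
  rw [h1'] at er
  rw [h2'] at es
  have hprod : ((etaW Bs L r : ℤ) : K) * ((etaW Bs L s : ℤ) : K) = 1 := by
    rw [← Int.cast_mul, h4, Int.cast_one]
  have hsq : ((etaW Bs L r : ℤ) : K) * ((etaW Bs L r : ℤ) : K) = 1 := by
    have := (etaW_sq C.hA Bs C.hB L hL r hr).2
    rw [← Int.cast_mul, this, Int.cast_one]
  obtain ⟨w, hw⟩ := X.hsurj _ (X.hadd.monomial_le (nWordU_mem C.hA X.hadd L))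
  have key := Cfsg.Agent.SLMult.comm_of_swap X.Ψ X.hc (X.x r)
    (fun t => X.x s (((etaW Bs L r : ℤ) : K) * t)) (X.x_add r)
    (fun t u => by
      show X.x s (_ * (t + u)) = X.x s _ * X.x s _
      rw [mul_add, X.x_add])
    (fun t u => (X.x_comm_of hc0' t _).symm)
    (X.lift_x r) (fun u => X.lift_x s _) w
    (fun t => by
      rw [hw]
      exact er t)
    (fun u => by
      show X.Ψ w * X.x s _ * (X.Ψ w)⁻¹ = X.x r u
      rw [hw]
      have := es (((etaW Bs L r : ℤ) : K) * u)
      rw [← mul_assoc, mul_comm (((etaW Bs L s : ℤ) : K)), hprod, one_mul] at this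
      exact this)
    hK h3
  intro b b' t u hb hb'
  apply key b b' t (((etaW Bs L r : ℤ) : K) * u) hb
  show X.Ψ b' = X.x s (_ * (_ * u))
  rw [← mul_assoc, hsq, one_mul]
  exact hb'

end Ext0

end Cfsg.Agent.StMult
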