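import Cfsg.Agent.Lib.Lead.StMult.B2
import Cfsg.Agent.Lib.Lead.StMult.SwapWord
import Mathlib

/-!
# Type `B₂` over the field with three elements: the lifts of the root elements (lead)

The torus acts trivially on the root subgroups of the long roots, so their elements are lifted as
commutators of the lifts of elements of the root subgroups of two short roots.
-/

set_option autoImplicit false
set_option maxRecDepth 100000

namespace Cfsg.Agent.StMult

open Cfsg.Lie Cfsg.Agent.Lib.Helper5.Chev Cfsg.Agent.Lib.Helper5.St Cfsg.Agent.Lib.Helper5.Tw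
  Cfsg.Agent.Lib.Helper5.UC
open scoped commutatorElement

namespace Ext0

section prime

variable {K : Type*} [Field K] {D : ChevalleyDatum} {E : Type*} [Group E] (X : Ext0 K D E)

/-- over the field with three elements the lifts of the elements of a root subgroup commute -/
theorem sr_three (hel : ∀ t : K, t = 0 ∨ t = 1 ∨ t = -1) (r : ℕ) : X.SR r := by
  obtain ⟨y, hy⟩ := X.lift_x r 1
  have key : ∀ (b : E) (t : K), X.Ψ b = X.x r t → ∃ k : ℤ, ∃ z : E, X.Ψ z = 1 ∧ b = y ^ k * z := by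
    intro b t hb
    rcases hel t with rfl | rfl | rfl
    · refine ⟨0, b, ?_, by simp⟩
      rw [hb, X.x_zero']
    · refine ⟨1, y⁻¹ * b, ?_, by simp⟩
      rw [map_mul, map_inv, hb, hy, inv_mul_cancel]
    · refine ⟨-1, y * b, ?_, by simp⟩
      rw [map_mul, hb, hy, X.x_neg, mul_inv_cancel]
  intro b b' t u hb hb'
  obtain ⟨k, z, hz, rfl⟩ := key b t hb
  obtain ⟨m, z', hz', rfl⟩ := key b' u hb'
  have c1 := X.hc z hz
  have c2 := X.hc z' hz'
  calc y ^ k * z * (y ^ m * z') = y ^ k * (z * y ^ m) * z' := by group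
    _ = y ^ k * (y ^ m * z) * z' := by rw [c1]
    _ = y ^ (k + m) * (z * z') := by rw [zpow_add]; group
    _ = y ^ (m + k) * (z' * z) := by rw [add_comm, c2 z]
    _ = y ^ m * (y ^ k * z') * z := by rw [zpow_add]; group
    _ = y ^ m * (z' * y ^ k) * z := by rw [c2]
    _ = y ^ m * z' * (y ^ k * z) := by group

end prime

end Ext0

/-! ### type `B₂` -/

/-- the short roots of type `B₂` -/
def shortb (r : ℕ) : Bool := Nat.beq r 1 || Nat.beq r 2 || Nat.beq r 5 || Nat.beq r 6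

theorem shortb_iff (r : ℕ) : shortb r = true ↔ r = 1 ∨ r = 2 ∨ r = 5 ∨ r = 6 := by
  unfold shortb
  simp only [Bool.or_eq_true, FD.nbeq]
  tauto

theorem b2_pair0 : pairD chevB2 0 0 = 2 ∧ pairD chevB2 0 1 = 1 ∧ pairD chevB2 0 2 = 1 ∧
    pairD chevB2 0 3 = 0 ∧ pairD chevB2 0 4 = 0 ∧ pairD chevB2 0 5 = -1 ∧ pairD chevB2 0 6 = -1 ∧
    pairD chevB2 0 7 = -2 := by decide +kernel

namespace Ext0

section

variable {K : Type*} [Field K] {E : Type*} [Group E] (X : Ext0 K chevB2 E)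

/-- the torus element `h_0(-1)` -/
def hS : GL chevB2.Idx K := X.hU 0 (-1)

theorem hS_mem : X.hS ∈ chevB2.diagonalSubgroup K :=
  X.hU_mem 0 (by decide) (-1) (neg_ne_zero.2 one_ne_zero)

theorem hS_conj (r : ℕ) (hr : r < 8) (t : K) :
    X.hS * X.x r t * (X.hS)⁻¹ = X.x r ((-1) ^ pairD chevB2 0 r * t) :=
  X.hU_conj 0 r (by decide) hr (-1) (neg_ne_zero.2 one_ne_zero) t

/-- `h_0(-1)` acts by `-1` on the root subgroups of the short roots -/
theorem hS_short (r : ℕ) (hr : shortb r = true) (t : K) :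
    X.hS * X.x r t * (X.hS)⁻¹ = X.x r (-1 * t) := by
  rw [shortb_iff] at hr
  rcases hr with rfl | rfl | rfl | rfl
  · rw [X.hS_conj 1 (by decide), b2_pair0.2.1, zpow_one]
  · rw [X.hS_conj 2 (by decide), b2_pair0.2.2.1, zpow_one]
  · rw [X.hS_conj 5 (by decide), b2_pair0.2.2.2.2.2.1, zpow_neg_one, inv_neg, inv_one]
  · rw [X.hS_conj 6 (by decide), b2_pair0.2.2.2.2.2.2.1, zpow_neg_one, inv_neg, inv_one]

/-- `h_0(-1)` centralises the root subgroups of the long roots -/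
theorem hS_long (r : ℕ) (hr : r < 8) (hl : shortb r = false) (t : K) :
    X.hS * X.x r t * (X.hS)⁻¹ = X.x r t := by
  have h8 : r = 0 ∨ r = 3 ∨ r = 4 ∨ r = 7 := by
    interval_cases r <;> first | (exfalso; revert hl; decide) | simp
  rcases h8 with rfl | rfl | rfl | rfl
  · rw [X.hS_conj 0 (by decide), b2_pair0.1]
    norm_num
  · rw [X.hS_conj 3 (by decide), b2_pair0.2.2.2.1, zpow_zero, one_mul]
  · rw [X.hS_conj 4 (by decide), b2_pair0.2.2.2.2.1, zpow_zero, one_mul]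
  · rw [X.hS_conj 7 (by decide), b2_pair0.2.2.2.2.2.2.2]
    norm_num

variable (hm1 : (-1 : K) ≠ 1)

include hm1 in
theorem torOK_short (r : ℕ) (hr : shortb r = true) : X.TorOK X.hS (-1) r :=
  ⟨X.hS_mem, hm1, fun t => X.hS_short r hr t⟩

include hm1 in
/-- lifts of the elements of a long and of a short root subgroup which commute commute -/
theorem lc_long_short {l s : ℕ} (hl : shortb l = false) (hs : shortb s = true)
    (hc : Ext0.Comm0 chevB2 l s) : X.LC l s := by
  apply X.lc_of_torus (fun t u => (X.x_comm_of hc t u).symm) X.hS X.hS_mem (-1) hm1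
  · intro t
    exact X.hS_long l hc.1 hl t
  · intro u
    exact X.hS_short s hs u

/-- the lift of `x_r(t)`, `r` a short root -/
noncomputable def Ys (r : ℕ) (t : K) : E := X.Yt X.hS (-1) r t

/-- the lift of `x_l(v)`, `l` the sum of the short roots `g`, `d` with structure constant `c` -/
noncomputable def YLg (g d : ℕ) (c : ℤ) (v : K) : E := ⁅X.Ys d (-v / ((c : ℤ) : K)), X.Ys g 1⁆

end

end Ext0

/-- the long root `l` is the sum of the short roots `g`, `d`, with structure constant `c` -/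
structure LongOK (K : Type*) [Field K] (l g d : ℕ) (c : ℤ) : Prop where
  dec : Ext0.Dec chevB2 l g d c
  hc : ((c : ℤ) : K) ≠ 0
  sg : shortb g = true
  sd : shortb d = true
  sl : shortb l = false
  hl : l < 8
  cg : Ext0.Comm0 chevB2 l g
  cd : Ext0.Comm0 chevB2 l d

namespace Ext0

section long

variable {K : Type*} [Field K] {E : Type*} [Group E] (X : Ext0 K chevB2 E)
  (hel : ∀ t : K, t = 0 ∨ t = 1 ∨ t = -1) (hm1 : (-1 : K) ≠ 1)
  {l g d : ℕ} {c : ℤ} (hL : LongOK K l g d c)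

include hm1 in
theorem map_Ys (r : ℕ) (hr : shortb r = true) (t : K) : X.Ψ (X.Ys r t) = X.x r t :=
  X.map_Yt (torOK_short X hm1 r hr) t

include hm1 hel in
theorem Ys_add (r : ℕ) (hr : shortb r = true) (t u : K) : X.Ys r t * X.Ys r u = X.Ys r (t + u) :=
  X.Yt_add (torOK_short X hm1 r hr) (X.sr_three hel r) t u

include hm1 hel in
theorem Ys_zero (r : ℕ) (hr : shortb r = true) : X.Ys r 0 = 1 := by
  have := Ys_add X hel hm1 r hr 0 0
  rw [add_zero] at this
  exact mul_eq_left.1 this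

include hm1 hel in
theorem Ys_neg (r : ℕ) (hr : shortb r = true) (t : K) : X.Ys r (-t) = (X.Ys r t)⁻¹ := by
  rw [eq_inv_iff_mul_eq_one, Ys_add X hel hm1 r hr, neg_add_cancel, Ys_zero X hel hm1 r hr]

include hm1 hL in
/-- the image of the commutator of the lifts of two short root elements -/
theorem map_bil (a b : K) : X.Ψ ⁅X.Ys d a, X.Ys g b⁆ = X.x l (-((c : ℤ) : K) * a * b) := by
  rw [map_commutatorElement, map_Ys X hm1 d hL.sd, map_Ys X hm1 g hL.sg, X.x_dec hL.dec]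

include hm1 hel hL in
theorem bil_add_left (a a' b : K) :
    ⁅X.Ys d (a + a'), X.Ys g b⁆ = ⁅X.Ys d a, X.Ys g b⁆ * ⁅X.Ys d a', X.Ys g b⁆ := by
  rw [← Ys_add X hel hm1 d hL.sd, comm_mul_left']
  have h1 : X.Ys d a * ⁅X.Ys d a', X.Ys g b⁆ = ⁅X.Ys d a', X.Ys g b⁆ * X.Ys d a :=
    ((lc_long_short X hm1 hL.sl hL.sd hL.cd) _ _ _ _ (map_bil X hm1 hL a' b)
      (map_Ys X hm1 d hL.sd a)).symm
  rw [h1, mul_inv_cancel_right]
  exact X.sr_three hel l _ _ _ _ (map_bil X hm1 hL a' b) (map_bil X hm1 hL a b)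

include hm1 hel hL in
theorem bil_add_right (a b b' : K) :
    ⁅X.Ys d a, X.Ys g (b + b')⁆ = ⁅X.Ys d a, X.Ys g b⁆ * ⁅X.Ys d a, X.Ys g b'⁆ := by
  rw [← Ys_add X hel hm1 g hL.sg, comm_mul_right']
  have h1 : X.Ys g b * ⁅X.Ys d a, X.Ys g b'⁆ = ⁅X.Ys d a, X.Ys g b'⁆ * X.Ys g b :=
    ((lc_long_short X hm1 hL.sl hL.sg hL.cg) _ _ _ _ (map_bil X hm1 hL a b')
      (map_Ys X hm1 g hL.sg b)).symm
  rw [h1, mul_inv_cancel_right]

include hm1 hel hL in
theorem bil_zero_left (b : K) : ⁅X.Ys d 0, X.Ys g b⁆ = 1 := by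
  rw [Ys_zero X hel hm1 d hL.sd, commutatorElement_one_left]

include hm1 hel hL in
theorem bil_zero_right (a : K) : ⁅X.Ys d a, X.Ys g 0⁆ = 1 := by
  rw [Ys_zero X hel hm1 g hL.sg, commutatorElement_one_right]

include hm1 hel hL in
theorem bil_neg_left (a b : K) : ⁅X.Ys d (-a), X.Ys g b⁆ = ⁅X.Ys d a, X.Ys g b⁆⁻¹ := by
  rw [eq_inv_iff_mul_eq_one, ← bil_add_left X hel hm1 hL, neg_add_cancel,
    bil_zero_left X hel hm1 hL]

include hm1 hel hL in
theorem bil_neg_right (a b : K) : ⁅X.Ys d a, X.Ys g (-b)⁆ = ⁅X.Ys d a, X.Ys g b⁆⁻¹ := by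
  rw [eq_inv_iff_mul_eq_one, ← bil_add_right X hel hm1 hL, neg_add_cancel,
    bil_zero_right X hel hm1 hL]

include hm1 hel hL in
/-- the commutator only depends on the product of the parameters -/
theorem bil_eq (a b : K) : ⁅X.Ys d a, X.Ys g b⁆ = ⁅X.Ys d (a * b), X.Ys g 1⁆ := by
  rcases hel b with rfl | rfl | rfl
  · rw [mul_zero, bil_zero_left X hel hm1 hL, bil_zero_right X hel hm1 hL]
  · rw [mul_one]
  · rw [mul_neg, mul_one, bil_neg_left X hel hm1 hL, bil_neg_right X hel hm1 hL]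

include hm1 hel hL in
/-- the commutator of the lifts of two short root elements is the lift of a long root element -/
theorem comm_dg (a b : K) : ⁅X.Ys d a, X.Ys g b⁆ = X.YLg g d c (-((c : ℤ) : K) * a * b) := by
  unfold YLg
  rw [bil_eq X hel hm1 hL]
  congr 2
  have := hL.hc
  field_simp

include hm1 hel hL in
theorem YLg_add (v v' : K) : X.YLg g d c v * X.YLg g d c v' = X.YLg g d c (v + v') := by
  unfold YLg
  rw [← bil_add_left X hel hm1 hL]
  congr 2
  ring

include hm1 hL in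
theorem map_YLg (v : K) : X.Ψ (X.YLg g d c v) = X.x l v := by
  unfold YLg
  rw [map_bil X hm1 hL]
  congr 1
  have := hL.hc
  field_simp

include hm1 hel hL in
theorem YLg_zero : X.YLg g d c 0 = 1 := by
  have := YLg_add X hel hm1 hL 0 0
  rw [add_zero] at this
  exact mul_eq_left.1 this

include hm1 hel hL in
theorem YLg_neg (v : K) : X.YLg g d c (-v) = (X.YLg g d c v)⁻¹ := by
  rw [eq_inv_iff_mul_eq_one, YLg_add X hel hm1 hL, neg_add_cancel, YLg_zero X hel hm1 hL]

include hm1 hel hL in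
theorem comm_gd (a b : K) : ⁅X.Ys g b, X.Ys d a⁆ = X.YLg g d c (((c : ℤ) : K) * a * b) := by
  rw [← comm_inv_swap, comm_dg X hel hm1 hL, ← YLg_neg X hel hm1 hL]
  congr 1
  ring

include hm1 hel hL in
/-- conjugation of the lift of a long root element by a lift of a torus element -/
theorem YLg_tor (a : E) (h : GL chevB2.Idx K) (hh : h ∈ chevB2.diagonalSubgroup K) (χ : K)
    (hχ : ∀ t, h * X.x l t * h⁻¹ = X.x l (χ * t)) (ha : X.Ψ a = h) (v : K) :
    a * X.YLg g d c v * a⁻¹ = X.YLg g d c (χ * v) := by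
  obtain ⟨χ', -, hχ'⟩ := diag_conj_char chevB2 X.hD h hh
  have hg8 : g < 8 := hL.cg.2.1
  have hd8 : d < 8 := hL.cd.2.1
  have e1 : a * X.Ys d (-v / ((c : ℤ) : K)) * a⁻¹ = X.Ys d ((χ' d : K) * (-v / ((c : ℤ) : K))) :=
    X.Yt_tor (torOK_short X hm1 d hL.sd) (X.sr_three hel d) a h hh _ (hχ' d hd8) ha _
  have e2 : a * X.Ys g 1 * a⁻¹ = X.Ys g ((χ' g : K) * 1) :=
    X.Yt_tor (torOK_short X hm1 g hL.sg) (X.sr_three hel g) a h hh _ (hχ' g hg8) ha _
  have e3 : a * X.YLg g d c v * a⁻¹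
      = X.YLg g d c (-((c : ℤ) : K) * ((χ' d : K) * (-v / ((c : ℤ) : K))) * ((χ' g : K) * 1)) := by
    unfold YLg
    rw [conj_comm, e1, e2]
    exact comm_dg X hel hm1 hL _ _
  rw [e3]
  congr 1
  apply X.x_inj l hL.hl
  rw [← map_YLg X hm1 hL, ← e3, map_mul, map_mul, map_inv, ha, map_YLg X hm1 hL, hχ]

end long

end Ext0

end Cfsg.Agent.StMult
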