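import Cfsg.Agent.Lib.Lead.StMult.B2F3a
import Mathlib

/-!
# Type `B₂` over the field with three elements: the relations lift to the central extensions
(lead)
-/

set_option autoImplicit false
set_option maxRecDepth 100000

namespace Cfsg.Agent.StMult

open Cfsg.Lie Cfsg.Agent.Lib.Helper5.Chev Cfsg.Agent.Lib.Helper5.St Cfsg.Agent.Lib.Helper5.Tw
  Cfsg.Agent.Lib.Helper5.UC
open scoped commutatorElement

universe u v

/-- the first short root of the decomposition of a long root -/
def dg (l : ℕ) : ℕ := if l = 7 then 5 else if l = 4 then 6 else 1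

/-- the second short root of the decomposition of a long root -/
def dd (l : ℕ) : ℕ := if l = 7 then 6 else if l = 4 then 2 else if l = 3 then 5 else 2

/-- the structure constant of the decomposition of a long root -/
def dc (l : ℕ) : ℤ := if l = 3 then -2 else 2

theorem b2_long_facts :
    (decb DataB2.fd 7 5 6 2 = true ∧ comm0b DataB2.fd 7 5 = true ∧ comm0b DataB2.fd 7 6 = true) ∧
    (decb DataB2.fd 4 6 2 2 = true ∧ comm0b DataB2.fd 4 6 = true ∧ comm0b DataB2.fd 4 2 = true) ∧
    (decb DataB2.fd 3 1 5 (-2) = true ∧ comm0b DataB2.fd 3 1 = true ∧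
      comm0b DataB2.fd 3 5 = true) ∧
    (decb DataB2.fd 0 1 2 2 = true ∧ comm0b DataB2.fd 0 1 = true ∧ comm0b DataB2.fd 0 2 = true) := by
  decide +kernel

theorem long_cases {l : ℕ} (hl : l < 8) (hs : shortb l = false) : l = 0 ∨ l = 3 ∨ l = 4 ∨ l = 7 := by
  interval_cases l <;> first | (exfalso; revert hs; decide) | simp

theorem longOK_all {K : Type*} [Field K] (h2 : (2 : K) ≠ 0) (l : ℕ) (hl : l < 8)
    (hs : shortb l = false) : LongOK K l (dg l) (dd l) (dc l) := by
  have hA := DataB2.agrees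
  have hm2 : ((-2 : ℤ) : K) ≠ 0 := by
    push_cast
    exact neg_ne_zero.2 h2
  have h2' : ((2 : ℤ) : K) ≠ 0 := by
    push_cast
    exact h2
  obtain ⟨f7, f4, f3, f0⟩ := b2_long_facts
  rcases long_cases hl hs with rfl | rfl | rfl | rfl
  · exact ⟨decb_spec hA f0.1, h2', by decide, by decide, by decide, by decide,
      comm0b_spec hA f0.2.1, comm0b_spec hA f0.2.2⟩
  · exact ⟨decb_spec hA f3.1, hm2, by decide, by decide, by decide, by decide,
      comm0b_spec hA f3.2.1, comm0b_spec hA f3.2.2⟩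
  · exact ⟨decb_spec hA f4.1, h2', by decide, by decide, by decide, by decide,
      comm0b_spec hA f4.2.1, comm0b_spec hA f4.2.2⟩
  · exact ⟨decb_spec hA f7.1, h2', by decide, by decide, by decide, by decide,
      comm0b_spec hA f7.2.1, comm0b_spec hA f7.2.2⟩

/-- the action of the fundamental reflections on the short and the long roots -/
theorem b2_refl_facts : ∀ i < 2, ∀ r < 8,
    shortb (wOf (BsB2.Bs.getD i 0) r) = shortb r ∧
      (shortb r = false →
        (wOf (BsB2.Bs.getD i 0) (dg r) = dg (wOf (BsB2.Bs.getD i 0) r) ∧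
          wOf (BsB2.Bs.getD i 0) (dd r) = dd (wOf (BsB2.Bs.getD i 0) r)) ∨
        (wOf (BsB2.Bs.getD i 0) (dg r) = dd (wOf (BsB2.Bs.getD i 0) r) ∧
          wOf (BsB2.Bs.getD i 0) (dd r) = dg (wOf (BsB2.Bs.getD i 0) r))) := by
  decide +kernel

namespace Ext0

section

variable {K : Type u} [Field K] {E : Type v} [Group E] (X : Ext0 K chevB2 E)
  (hel : ∀ t : K, t = 0 ∨ t = 1 ∨ t = -1) (hm1 : (-1 : K) ≠ 1)

include hel hm1 in
/-- conjugation of the lift of a long root element by a lift of `n_i` -/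
theorem YLg_n (i : ℕ) (hi : i < 2) {l g d l' g' d' : ℕ} {c c' : ℤ} (hL : LongOK K l g d c)
    (hL' : LongOK K l' g' d' c') (hl' : wOf (BsB2.Bs.getD i 0) l = l')
    (hcase : (wOf (BsB2.Bs.getD i 0) g = g' ∧ wOf (BsB2.Bs.getD i 0) d = d') ∨
      (wOf (BsB2.Bs.getD i 0) g = d' ∧ wOf (BsB2.Bs.getD i 0) d = g'))
    (n : E) (hn : X.Ψ n = nUi (DtB2.uctx K).C.hA X.hadd i) (v : K) :
    n * X.YLg g d c v * n⁻¹
      = X.YLg g' d' c' (((etaOf (BsB2.Bs.getD i 0) l : ℤ) : K) * v) := by
  have hg8 : g < 8 := hL.cg.2.1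
  have hd8 : d < 8 := hL.cd.2.1
  have hswg : shortb (wOf (BsB2.Bs.getD i 0) g) = true := by
    rw [(b2_refl_facts i hi g hg8).1]
    exact hL.sg
  have hswd : shortb (wOf (BsB2.Bs.getD i 0) d) = true := by
    rw [(b2_refl_facts i hi d hd8).1]
    exact hL.sd
  have e1 : ∀ a : K, n * X.Ys d a * n⁻¹
      = X.Ys (wOf (BsB2.Bs.getD i 0) d) (((etaOf (BsB2.Bs.getD i 0) d : ℤ) : K) * a) := fun a =>
    X.Yt_n (DtB2.uctx K).C i hi hd8 (torOK_short X hm1 d hL.sd) (torOK_short X hm1 _ hswd)
      (X.sr_three hel _) n hn a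
  have e2 : ∀ a : K, n * X.Ys g a * n⁻¹
      = X.Ys (wOf (BsB2.Bs.getD i 0) g) (((etaOf (BsB2.Bs.getD i 0) g : ℤ) : K) * a) := fun a =>
    X.Yt_n (DtB2.uctx K).C i hi hg8 (torOK_short X hm1 g hL.sg) (torOK_short X hm1 _ hswg)
      (X.sr_three hel _) n hn a
  have key : ∃ v'' : K, n * X.YLg g d c v * n⁻¹ = X.YLg g' d' c' v'' := by
    unfold YLg
    rw [conj_comm, e1, e2]
    rcases hcase with ⟨hg', hd'⟩ | ⟨hg', hd'⟩
    · rw [hg', hd']
      exact ⟨_, comm_dg X hel hm1 hL' _ _⟩
    · rw [hg', hd']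
      exact ⟨_, comm_gd X hel hm1 hL' _ _⟩
  obtain ⟨v'', hv''⟩ := key
  rw [hv'']
  congr 1
  apply X.x_inj l' hL'.hl
  rw [← map_YLg X hm1 hL', ← hv'', map_mul, map_mul, map_inv, hn, map_YLg X hm1 hL,
    X.n_conj (DtB2.uctx K).C i hi l hL.hl, hl']

/-- the lifts of the root elements -/
noncomputable def Yb (r : ℕ) (t : K) : E :=
  if shortb r = true then X.Ys r t else X.YLg (dg r) (dd r) (dc r) t

theorem Yb_short {r : ℕ} (hr : shortb r = true) (t : K) : X.Yb r t = X.Ys r t := if_pos hr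

theorem Yb_long {r : ℕ} (hr : shortb r = false) (t : K) :
    X.Yb r t = X.YLg (dg r) (dd r) (dc r) t := by
  unfold Yb
  rw [if_neg]
  rw [hr]
  exact Bool.false_ne_true

/-- the family of the lifts of the root elements -/
noncomputable def famB (h2 : (2 : K) ≠ 0) : Fam X (DtB2.uctx K).C where
  Y := X.Yb
  map_Y := by
    intro r hr t
    by_cases hs : shortb r = true
    · rw [X.Yb_short hs]
      exact map_Ys X hm1 r hs t
    · have hs' : shortb r = false := by simpa using hs
      rw [X.Yb_long hs']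
      exact map_YLg X hm1 (longOK_all h2 r hr hs') t
  add := by
    intro r hr t u
    by_cases hs : shortb r = true
    · rw [X.Yb_short hs, X.Yb_short hs, X.Yb_short hs]
      exact Ys_add X hel hm1 r hs t u
    · have hs' : shortb r = false := by simpa using hs
      rw [X.Yb_long hs', X.Yb_long hs', X.Yb_long hs']
      exact YLg_add X hel hm1 (longOK_all h2 r hr hs') t u
  tor := by
    intro r hr a h hh χ hχ ha t
    by_cases hs : shortb r = true
    · rw [X.Yb_short hs, X.Yb_short hs]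
      exact X.Yt_tor (torOK_short X hm1 r hs) (X.sr_three hel r) a h hh χ hχ ha t
    · have hs' : shortb r = false := by simpa using hs
      rw [X.Yb_long hs', X.Yb_long hs']
      exact YLg_tor X hel hm1 (longOK_all h2 r hr hs') a h hh χ hχ ha t
  nconj := by
    intro i hi r hr n hn t
    have hi' : i < 2 := hi
    have hr' : r < 8 := hr
    have hw8 : wOf (BsB2.Bs.getD i 0) r < 8 := (((DtB2.uctx K).C.hB i hi).cert (DtB2.uctx K).C.hA).w_lt r hr
    obtain ⟨hsw, hcase⟩ := b2_refl_facts i hi' r hr'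
    by_cases hs : shortb r = true
    · have hs2 : shortb (wOf (BsB2.Bs.getD i 0) r) = true := by rw [hsw]; exact hs
      rw [X.Yb_short hs, X.Yb_short hs2]
      exact X.Yt_n (DtB2.uctx K).C i hi hr (torOK_short X hm1 r hs) (torOK_short X hm1 _ hs2)
        (X.sr_three hel _) n hn t
    · have hs' : shortb r = false := by simpa using hs
      have hs2 : shortb (wOf (BsB2.Bs.getD i 0) r) = false := by rw [hsw]; exact hs'
      rw [X.Yb_long hs', X.Yb_long hs2]
      exact YLg_n X hel hm1 i hi' (longOK_all h2 r hr hs') (longOK_all h2 _ hw8 hs2) rfl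
        (hcase hs') n hn t

end

end Ext0

end Cfsg.Agent.StMult
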