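import Cfsg.Agent.Lib.Lead.StMult.B2F3b
import Mathlib

/-!
# Type `B₂` over the field with three elements: the pairs of positive roots (lead)
-/

set_option autoImplicit false
set_option maxRecDepth 100000

namespace Cfsg.Agent.StMult

open Cfsg.Lie Cfsg.Agent.Lib.Helper5.Chev Cfsg.Agent.Lib.Helper5.St Cfsg.Agent.Lib.Helper5.Tw
  Cfsg.Agent.Lib.Helper5.UC
open scoped commutatorElement

universe u v

theorem b2_torus_facts : torusb chevB2 false 4 5 = true ∧ torusb chevB2 false 4 6 = true ∧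
    torusb chevB2 false 7 5 = true ∧ torusb chevB2 false 7 6 = true := by decide +kernel

theorem b2_swap_facts : swapb chevB2 BsB2.Bs 4 7 [0] = true ∧ swapb chevB2 BsB2.Bs 7 4 [0] = true ∧
    comm0b DataB2.fd 4 7 = true ∧ comm0b DataB2.fd 7 4 = true := by decide +kernel

theorem b2_comm_facts : comm0b DataB2.fd 5 7 = true ∧ comm0b DataB2.fd 7 5 = true ∧
    comm0b DataB2.fd 6 7 = true ∧ comm0b DataB2.fd 7 6 = true ∧ comm0b DataB2.fd 6 4 = true ∧
    comm0b DataB2.fd 4 6 = true := by decide +kernel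

theorem b2_terms45 : chevB2.commTerms 4 5 = [(6, 1, 1, 1), (7, -1, 1, 2)] := by decide +kernel

theorem b2_terms54 : chevB2.commTerms 5 4 = [(6, -1, 1, 1), (7, -1, 2, 1)] := by decide +kernel

theorem b2_terms56' : chevB2.commTerms 5 6 = [(7, 2, 1, 1)] := by decide +kernel

theorem b2_terms65 : chevB2.commTerms 6 5 = [(7, -2, 1, 1)] := by decide +kernel

namespace Fam

variable {K : Type*} [Field K] {D : ChevalleyDatum} {E : Type*} [Group E] {X : Ext0 K D E}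
  {T : FD} {Bs : List ℕ} {gH : ℕ} {baseH : List ℕ} {fuel : ℕ}
  {C : StCtx K D T Bs gH baseH fuel} (F : Fam X C)

theorem Y_zero (r : ℕ) (hr : r < D.nroots) : F.Y r 0 = 1 := by
  have := F.add r hr 0 0
  rw [add_zero] at this
  exact mul_eq_left.1 this

theorem Y_neg (r : ℕ) (hr : r < D.nroots) (t : K) : F.Y r (-t) = (F.Y r t)⁻¹ := by
  rw [eq_inv_iff_mul_eq_one, F.add r hr, neg_add_cancel, F.Y_zero r hr]

end Fam

theorem longOK7 {K : Type*} [Field K] (h2 : (2 : K) ≠ 0) : LongOK K 7 5 6 2 :=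
  longOK_all h2 7 (by decide) (by decide)

namespace Ext0

section

variable {K : Type u} [Field K] {E : Type v} [Group E] (X : Ext0 K chevB2 E)
  (hel : ∀ t : K, t = 0 ∨ t = 1 ∨ t = -1) (hm1 : (-1 : K) ≠ 1) (h2 : (2 : K) ≠ 0)

include hm1 in
theorem lc75 : X.LC 7 5 :=
  lc_long_short X hm1 (by decide) (by decide) (comm0b_spec DataB2.agrees b2_comm_facts.2.1)

include hm1 in
theorem lc76 : X.LC 7 6 :=
  lc_long_short X hm1 (by decide) (by decide) (comm0b_spec DataB2.agrees b2_comm_facts.2.2.2.1)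

include hm1 in
theorem lc46 : X.LC 4 6 :=
  lc_long_short X hm1 (by decide) (by decide)
    (comm0b_spec DataB2.agrees b2_comm_facts.2.2.2.2.2)

include hel hm1 h2 in
/-- the relation (R2) for the pair of the two short positive roots -/
theorem rel56 : Rel2 (X.famB hel hm1 h2).Y chevB2 5 6 := by
  intro t u
  unfold ChevalleyDatum.commWord
  rw [b2_terms56', List.map_cons, List.map_nil, wordG_cons, wordG_nil, mul_one]
  show X.Yb 6 u * X.Yb 5 t = X.Yb 5 t * X.Yb 6 u * X.Yb 7 _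
  rw [X.Yb_short (show shortb 6 = true by decide), X.Yb_short (show shortb 5 = true by decide),
    X.Yb_long (show shortb 7 = false by decide)]
  show X.Ys 6 u * X.Ys 5 t = X.Ys 5 t * X.Ys 6 u * X.YLg 5 6 2 (((2 : ℤ) : K) * (-t) ^ 1 * u ^ 1)
  have hL : LongOK K 7 5 6 2 := longOK7 h2
  have e1 : X.Ys 6 u * X.Ys 5 t = ⁅X.Ys 6 u, X.Ys 5 t⁆ * (X.Ys 5 t * X.Ys 6 u) := by
    rw [commutatorElement_def]
    group
  rw [e1, comm_dg X hel hm1 hL]
  have c5 := (X.lc75 hm1) _ _ (-(((2 : ℤ) : ℤ) : K) * u * t) t (map_YLg X hm1 hL _)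
    (map_Ys X hm1 5 (by decide) t)
  have c6 := (X.lc76 hm1) _ _ (-(((2 : ℤ) : ℤ) : K) * u * t) u (map_YLg X hm1 hL _)
    (map_Ys X hm1 6 (by decide) u)
  rw [← mul_assoc, c5, mul_assoc, c6, ← mul_assoc]
  congr 2
  push_cast
  ring

include hel hm1 h2 in
theorem rel65 : Rel2 (X.famB hel hm1 h2).Y chevB2 6 5 := by
  intro t u
  unfold ChevalleyDatum.commWord
  rw [b2_terms65, List.map_cons, List.map_nil, wordG_cons, wordG_nil, mul_one]
  show X.Yb 5 u * X.Yb 6 t = X.Yb 6 t * X.Yb 5 u * X.Yb 7 _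
  rw [X.Yb_short (show shortb 6 = true by decide), X.Yb_short (show shortb 5 = true by decide),
    X.Yb_long (show shortb 7 = false by decide)]
  show X.Ys 5 u * X.Ys 6 t = X.Ys 6 t * X.Ys 5 u * X.YLg 5 6 2 (((-2 : ℤ) : K) * (-t) ^ 1 * u ^ 1)
  have hL : LongOK K 7 5 6 2 := longOK7 h2
  have e1 : X.Ys 5 u * X.Ys 6 t = ⁅X.Ys 5 u, X.Ys 6 t⁆ * (X.Ys 6 t * X.Ys 5 u) := by
    rw [commutatorElement_def]
    group
  rw [e1, comm_gd X hel hm1 hL]
  have c5 := (X.lc75 hm1) _ _ ((((2 : ℤ) : ℤ) : K) * t * u) u (map_YLg X hm1 hL _)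
    (map_Ys X hm1 5 (by decide) u)
  have c6 := (X.lc76 hm1) _ _ ((((2 : ℤ) : ℤ) : K) * t * u) t (map_YLg X hm1 hL _)
    (map_Ys X hm1 6 (by decide) t)
  rw [← mul_assoc, c6, mul_assoc, c5, ← mul_assoc]
  congr 2
  push_cast
  ring

include hel hm1 h2 in
/-- the relation (R2) for the pair (short, long) follows from the one for the pair
(long, short) -/
theorem rel54 (h45 : Rel2 (X.famB hel hm1 h2).Y chevB2 4 5) :
    Rel2 (X.famB hel hm1 h2).Y chevB2 5 4 := by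
  obtain ⟨F, hF⟩ : ∃ F : Fam X (DtB2.uctx K).C, F = X.famB hel hm1 h2 := ⟨_, rfl⟩
  rw [← hF] at h45 ⊢
  intro t u
  have key := h45 u t
  unfold ChevalleyDatum.commWord at key ⊢
  rw [b2_terms45, List.map_cons, List.map_cons, List.map_nil, wordG_cons, wordG_cons, wordG_nil,
    mul_one] at key
  rw [b2_terms54, List.map_cons, List.map_cons, List.map_nil, wordG_cons, wordG_cons, wordG_nil,
    mul_one]
  have e6 : F.Y 6 (((-1 : ℤ) : K) * (-t) ^ 1 * u ^ 1) = (F.Y 6 (((1 : ℤ) : K) * (-u) ^ 1 * t ^ 1))⁻¹ := by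
    rw [← F.Y_neg 6 (by decide)]
    congr 1
    push_cast
    ring
  have e7 : F.Y 7 (((-1 : ℤ) : K) * (-t) ^ 2 * u ^ 1) = (F.Y 7 (((-1 : ℤ) : K) * (-u) ^ 1 * t ^ 2))⁻¹ := by
    rw [← F.Y_neg 7 (by decide)]
    congr 1
    push_cast
    ring
  have hcm : F.Y 7 (((-1 : ℤ) : K) * (-u) ^ 1 * t ^ 2) * F.Y 6 (((1 : ℤ) : K) * (-u) ^ 1 * t ^ 1)
      = F.Y 6 (((1 : ℤ) : K) * (-u) ^ 1 * t ^ 1) * F.Y 7 (((-1 : ℤ) : K) * (-u) ^ 1 * t ^ 2) :=
    (X.lc76 hm1) _ _ _ _ (F.map_Y 7 (by decide) _) (F.map_Y 6 (by decide) _)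
  show F.Y 4 u * F.Y 5 t = F.Y 5 t * F.Y 4 u * (F.Y 6 _ * F.Y 7 _)
  rw [e6, e7]
  have key' : F.Y 5 t * F.Y 4 u = F.Y 4 u * F.Y 5 t *
      (F.Y 6 (((1 : ℤ) : K) * (-u) ^ 1 * t ^ 1) * F.Y 7 (((-1 : ℤ) : K) * (-u) ^ 1 * t ^ 2)) := key
  rw [key', ← mul_inv_rev, hcm]
  group

end

end Ext0

/-- type `B₂`: the relations lift to the central extensions, over the field with three
elements -/
theorem lifts_B2_three {K : Type u} [Field K] [Fintype K] (hK : Fintype.card K = 3) :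
    Lifts.{u, v} K chevB2 := by
  classical
  intro E _ X
  obtain ⟨hel, h3⟩ := field_three hK
  have hm1 : (-1 : K) ≠ 1 := by
    intro e
    have e2 : (1 : K) + 1 = 0 := by nth_rw 2 [← e]; exact add_neg_cancel 1
    rw [e2, zero_add] at h3
    exact one_ne_zero h3
  have hm0 : (-1 : K) ≠ 0 := neg_ne_zero.2 one_ne_zero
  have h2 : (2 : K) ≠ 0 := by
    intro e
    apply hm1
    have : (2 : K) = 1 - (-1) := by norm_num
    rw [this, sub_eq_zero] at e
    exact e.symm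
  have hA := (DtB2.uctx K).C.hA
  obtain ⟨F, hF⟩ : ∃ F : Fam X (DtB2.uctx K).C, F = X.famB hel hm1 h2 := ⟨_, rfl⟩
  refine ⟨F.Y, F.rel_all (DtB2.uctx K) ?_⟩
  have htor : ∀ {r s : ℕ}, r < 8 → s < 8 → torusb chevB2 false r s = true → F.Treat r s :=
    fun {r s} hr hs h => F.treat_of_pair (-1) hm0 hm1 (two := false)
      (fun h => absurd h Bool.false_ne_true) hr hs (torusb_spec h)
  have hlc : ∀ {r s : ℕ}, comm0b DataB2.fd r s = true → X.LC r s → F.Treat r s :=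
    fun {r s} h h' => Or.inr (Or.inl ⟨(comm0b_spec hA h).2.2.2.2, h'⟩)
  have h47 : X.LC 4 7 :=
    X.lc_of_swapWord (DtB2.uctx K).C hel h3 (comm0b_spec hA b2_swap_facts.2.2.1) b2_swap_facts.1
  intro r hr s hs hpr hps hne
  have hr8 : r < 8 := hr
  have hs8 : s < 8 := hs
  have hr4 : 4 ≤ r := hpr
  have hs4 : 4 ≤ s := hps
  interval_cases r <;> interval_cases s
  · exact absurd rfl hne
  · exact Or.inl (htor (by decide) (by decide) b2_torus_facts.1)
  · exact Or.inl (htor (by decide) (by decide) b2_torus_facts.2.1)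
  · exact Or.inl (hlc b2_swap_facts.2.2.1 h47)
  · refine Or.inr ⟨htor (by decide) (by decide) b2_torus_facts.1, ?_⟩
    rw [hF]
    exact X.rel54 hel hm1 h2
  · exact absurd rfl hne
  · refine Or.inl (Or.inr (Or.inr ?_))
    rw [hF]
    exact X.rel56 hel hm1 h2
  · exact Or.inl (hlc b2_comm_facts.1 (X.lc75 hm1).symm)
  · exact Or.inl (hlc b2_comm_facts.2.2.2.2.1 (X.lc46 hm1).symm)
  · refine Or.inl (Or.inr (Or.inr ?_))
    rw [hF]
    exact X.rel65 hel hm1 h2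
  · exact absurd rfl hne
  · exact Or.inl (hlc b2_comm_facts.2.2.1 (X.lc76 hm1).symm)
  · exact Or.inl (hlc b2_swap_facts.2.2.2 h47.symm)
  · exact Or.inl (htor (by decide) (by decide) b2_torus_facts.2.2.1)
  · exact Or.inl (htor (by decide) (by decide) b2_torus_facts.2.2.2)
  · exact absurd rfl hne

end Cfsg.Agent.StMult
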