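import Cfsg.Agent.Lib.Lead.StMult.TorFam
import Mathlib

/-!
# Boolean checks on the root tables, and the lifting of the relations by torus elements (lead)
-/

set_option autoImplicit false

namespace Cfsg.Agent.StMult

open Cfsg.Lie Cfsg.Agent.Lib.Helper5.Chev Cfsg.Agent.Lib.Helper5.St Cfsg.Agent.Lib.Helper5.Tw
  Cfsg.Agent.Lib.Helper5.UC
open scoped commutatorElement

section checks

variable {T : FD} {D : ChevalleyDatum}

/-- the check of `Comm0` -/
def comm0b (T : FD) (r s : ℕ) : Bool :=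
  Nat.blt r T.nroots && Nat.blt s T.nroots && !(Nat.beq s r) && !(Nat.beq s (T.neg r)) &&
    (T.commTerms r s).isEmpty

theorem comm0b_spec (hA : T.Agrees D) {r s : ℕ} (h : comm0b T r s = true) : Ext0.Comm0 D r s := by
  unfold comm0b at h
  simp only [Bool.and_eq_true, Nat.blt_eq, Bool.not_eq_true', List.isEmpty_iff] at h
  obtain ⟨⟨⟨⟨h1, h2⟩, h3⟩, h4⟩, h5⟩ := h
  rw [hA.nroots_eq] at h1 h2
  refine ⟨h1, h2, ?_, ?_, ?_⟩
  · intro e
    rw [← FD.nbeq, h3] at e
    exact Bool.false_ne_true e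
  · intro e
    rw [FD.neg_eq' hA r h1, ← FD.nbeq, h4] at e
    exact Bool.false_ne_true e
  · rw [FD.commTerms_eq hA r s h1 h2]
    exact h5

/-- the check of `Dec` -/
def decb (T : FD) (s g d : ℕ) (c : ℤ) : Bool :=
  Nat.blt g T.nroots && Nat.blt d T.nroots && !(Nat.beq d g) && !(Nat.beq d (T.neg g)) &&
    decide (T.commTerms g d = [(s, c, 1, 1)])

theorem decb_spec (hA : T.Agrees D) {s g d : ℕ} {c : ℤ} (h : decb T s g d c = true) :
    Ext0.Dec D s g d c := by
  unfold decb at h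
  simp only [Bool.and_eq_true, Nat.blt_eq, Bool.not_eq_true', decide_eq_true_eq] at h
  obtain ⟨⟨⟨⟨h1, h2⟩, h3⟩, h4⟩, h5⟩ := h
  rw [hA.nroots_eq] at h1 h2
  refine ⟨h1, h2, ?_, ?_, ?_⟩
  · intro e
    rw [← FD.nbeq, h3] at e
    exact Bool.false_ne_true e
  · intro e
    rw [FD.neg_eq' hA g h1, ← FD.nbeq, h4] at e
    exact Bool.false_ne_true e
  · rw [FD.commTerms_eq hA g d h1 h2]
    exact h5

/-- the check of the torus elements for the pair `(r, s)` -/
def torusb (D : ChevalleyDatum) (two : Bool) (r s : ℕ) : Bool :=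
  (List.range D.nroots).any fun a => decide (pairD D a r = 0) &&
    (decide (pairD D a s = 1) || decide (pairD D a s = -1) ||
      (two && (decide (pairD D a s = 2) || decide (pairD D a s = -2))))

theorem torusb_spec {two : Bool} {r s : ℕ} (h : torusb D two r s = true) :
    ∃ a < D.nroots, pairD D a r = 0 ∧ (pairD D a s = 1 ∨ pairD D a s = -1 ∨
      (two = true ∧ (pairD D a s = 2 ∨ pairD D a s = -2))) := by
  unfold torusb at h
  rw [List.any_eq_true] at h
  obtain ⟨a, ha, h5⟩ := h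
  simp only [Bool.or_eq_true, Bool.and_eq_true, decide_eq_true_eq] at h5
  refine ⟨a, List.mem_range.1 ha, h5.1, ?_⟩
  rcases h5.2 with (h6 | h6) | ⟨h7, h6⟩
  · exact Or.inl h6
  · exact Or.inr (Or.inl h6)
  · exact Or.inr (Or.inr ⟨h7, h6⟩)

/-- the check of the torus elements for all pairs of positive roots -/
def posTorusb (D : ChevalleyDatum) (two : Bool) : Bool :=
  allBelow D.nroots fun r => allBelow D.nroots fun s =>
    Nat.blt r (D.nroots / 2) || Nat.blt s (D.nroots / 2) || Nat.beq s r || torusb D two r s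

theorem posTorusb_spec {two : Bool} (h : posTorusb D two = true) (r s : ℕ) (hr : r < D.nroots)
    (hs : s < D.nroots) (hpr : D.nroots / 2 ≤ r) (hps : D.nroots / 2 ≤ s) (hne : s ≠ r) :
    ∃ a < D.nroots, pairD D a r = 0 ∧ (pairD D a s = 1 ∨ pairD D a s = -1 ∨
      (two = true ∧ (pairD D a s = 2 ∨ pairD D a s = -2))) := by
  unfold posTorusb at h
  have h3 := allBelow_spec _ _ (allBelow_spec _ _ h r hr) s hs
  simp only [Bool.or_eq_true, Nat.blt_eq] at h3
  rcases h3 with ((h3 | h3) | h3) | h3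
  · omega
  · omega
  · exact absurd (FD.nbeq.1 h3) hne
  · exact torusb_spec h3

end checks

namespace Fam

variable {K : Type*} [Field K] {D : ChevalleyDatum} {E : Type*} [Group E] {X : Ext0 K D E}
  {T : FD} {Bs : List ℕ} {gH : ℕ} {baseH : List ℕ} {fuel : ℕ}
  {C : StCtx K D T Bs gH baseH fuel} (F : Fam X C)

/-- a pair of roots is treated by a torus element `h_a(c)` -/
theorem treat_of_pair {two : Bool} (c : K) (hc0 : c ≠ 0) (hc1 : c ≠ 1)
    (htwo : two = true → c ^ 2 ≠ 1) {r s : ℕ} (hr : r < D.nroots) (hs : s < D.nroots)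
    (h : ∃ a < D.nroots, pairD D a r = 0 ∧ (pairD D a s = 1 ∨ pairD D a s = -1 ∨
      (two = true ∧ (pairD D a s = 2 ∨ pairD D a s = -2)))) : F.Treat r s := by
  obtain ⟨a, ha, h0, h1⟩ := h
  apply F.treat_of_torus hr hs ha c hc0 h0
  have hinv : c⁻¹ ≠ 1 := by
    intro e
    apply hc1
    rw [← inv_inv c, e, inv_one]
  rcases h1 with h1 | h1 | ⟨h2, h1 | h1⟩
  · rw [h1, zpow_one]
    exact hc1
  · rw [h1, zpow_neg_one]
    exact hinv
  · rw [h1, zpow_ofNat]
    exact htwo h2
  · rw [h1, zpow_neg, zpow_ofNat]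
    intro e
    apply htwo h2
    rw [← inv_inv (c ^ 2), e, inv_one]

end Fam

namespace Ext0

variable {K : Type*} [Field K] {D : ChevalleyDatum} {E : Type*} [Group E] (X : Ext0 K D E)
  {T : FD} {Bs : List ℕ} {gH : ℕ} {baseH : List ℕ} {fuel : ℕ}

/-- the relations (R1), (R2) lift, if the lifts of the elements of each root subgroup commute and
all pairs of positive roots can be treated by torus elements `h_a(c)` -/
theorem rel_of_torus (U : UCtx K D T Bs gH baseH fuel) (c : K) (hc0 : c ≠ 0) (hc1 : c ≠ 1)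
    (two : Bool) (htwo : two = true → c ^ 2 ≠ 1)
    (hpt : ∀ r < D.nroots, ∃ a < D.nroots, c ^ pairD D a r ≠ 1)
    (hSR : ∀ r < D.nroots, X.SR r) (htor : posTorusb D two = true) :
    ∃ Y : ℕ → K → E,
      (∀ r < D.nroots, ∀ t : K, X.Ψ (Y r t) = X.hadd.xU r t) ∧ (∀ r < D.nroots, Rel1 Y r) ∧
        ∀ r < D.nroots, ∀ s < D.nroots, s ≠ r → s ≠ D.neg r → Rel2 Y D r s := by
  classical
  let pt : ℕ → ℕ := fun r => if h : r < D.nroots then (hpt r h).choose else 0
  have hptS : ∀ r (h : r < D.nroots), pt r < D.nroots ∧ c ^ pairD D (pt r) r ≠ 1 := by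
    intro r h
    have e : pt r = (hpt r h).choose := dif_pos h
    rw [e]
    exact (hpt r h).choose_spec
  let F : Fam X U.C := X.torFam U.C (fun r => X.hU (pt r) c) (fun r => c ^ pairD D (pt r) r)
    (fun r hr => X.torOK_hU (hptS r hr).1 hr c hc0 (hptS r hr).2) hSR
  refine ⟨F.Y, F.rel_all U ?_⟩
  intro r hr s hs hpr hps hne
  exact Or.inl (F.treat_of_pair c hc0 hc1 htwo hr hs (posTorusb_spec htor r s hr hs hpr hps hne))

end Ext0

end Cfsg.Agent.StMult
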