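import Cfsg.Agent.Lib.Lead.StMult.Checks
import Cfsg.Agent.Lib.Lead.StMult.Univ
import Cfsg.Agent.Lib.Helper5.UC.DtAll
import Mathlib

/-!
# Type `D₄`: the relations lift to the central extensions, fields with a scalar whose square is
not one (lead)
-/

set_option autoImplicit false
set_option maxRecDepth 100000

namespace Cfsg.Agent.StMult

open Cfsg.Lie Cfsg.Agent.Lib.Helper5.Chev Cfsg.Agent.Lib.Helper5.St Cfsg.Agent.Lib.Helper5.Tw
  Cfsg.Agent.Lib.Helper5.UC
open scoped commutatorElement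

universe u v

theorem d4_posTorus_two : posTorusb chevD4 true = true := by decide +kernel

theorem d4_simple : chevD4.simple 0 = 18 ∧ chevD4.simple 1 = 14 ∧ chevD4.simple 2 = 13 ∧
    chevD4.simple 3 = 12 := by decide +kernel

theorem d4_dec0 : decb DataD4.fd 18 6 22 1 = true ∧ comm0b DataD4.fd 18 6 = true ∧
    comm0b DataD4.fd 18 22 = true := by decide +kernel

theorem d4_dec1 : decb DataD4.fd 14 1 23 (-1) = true ∧ comm0b DataD4.fd 14 1 = true ∧
    comm0b DataD4.fd 14 23 = true := by decide +kernel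

theorem d4_dec2 : decb DataD4.fd 13 3 22 (-1) = true ∧ comm0b DataD4.fd 13 3 = true ∧
    comm0b DataD4.fd 13 22 = true := by decide +kernel

theorem d4_dec3 : decb DataD4.fd 12 2 22 (-1) = true ∧ comm0b DataD4.fd 12 2 = true ∧
    comm0b DataD4.fd 12 22 = true := by decide +kernel

section

variable {K : Type u} [Field K] {E : Type v} [Group E] (X : Ext0 K chevD4 E)

/-- type `D₄`: the lifts of the elements of a root subgroup commute -/
theorem sr_D4 : ∀ r < chevD4.nroots, X.SR r := by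
  have hA := (DtD4.uctx K).C.hA
  apply X.sr_all (DtD4.uctx K).C
  intro j hj
  have hj' : j < 4 := hj
  have h1 : ((1 : ℤ) : K) ≠ 0 := by simp
  have hm1 : ((-1 : ℤ) : K) ≠ 0 := by simp
  interval_cases j
  · rw [d4_simple.1]
    exact X.lc_of_dec (decb_spec hA d4_dec0.1) h1 (comm0b_spec hA d4_dec0.2.1)
      (comm0b_spec hA d4_dec0.2.2)
  · rw [d4_simple.2.1]
    exact X.lc_of_dec (decb_spec hA d4_dec1.1) hm1 (comm0b_spec hA d4_dec1.2.1)
      (comm0b_spec hA d4_dec1.2.2)
  · rw [d4_simple.2.2.1]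
    exact X.lc_of_dec (decb_spec hA d4_dec2.1) hm1 (comm0b_spec hA d4_dec2.2.1)
      (comm0b_spec hA d4_dec2.2.2)
  · rw [d4_simple.2.2.2]
    exact X.lc_of_dec (decb_spec hA d4_dec3.1) hm1 (comm0b_spec hA d4_dec3.2.1)
      (comm0b_spec hA d4_dec3.2.2)

end

/-- type `D₄`: the relations lift to the central extensions, if some scalar has a square different
from one -/
theorem lifts_D4_sq {K : Type u} [Field K] (c : K) (hc0 : c ≠ 0) (hsq : c ^ 2 ≠ 1) :
    Lifts.{u, v} K chevD4 := by
  intro E _ X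
  have hc1 : c ≠ 1 := by
    intro e
    apply hsq
    rw [e, one_pow]
  have hP := pfacts_of_check (DtD4.uctx K).C (DtD4.uctx K).pf
  apply X.rel_of_torus (DtD4.uctx K) c hc0 hc1 true (fun _ => hsq) ?_ (sr_D4 X) d4_posTorus_two
  intro r hr
  refine ⟨r, hr, ?_⟩
  rw [hP.self r hr, zpow_ofNat]
  exact hsq

end Cfsg.Agent.StMult
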