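import Cfsg.Agent.Lib.Lead.StMult.D4
import Cfsg.Agent.Lib.Lead.StMult.SwapWord
import Mathlib

/-!
# Type `D₄` over the field with three elements: the relations lift to the central extensions
(lead)

The pairs of orthogonal roots cannot be treated by torus elements; the lifts of the elements of
the two root subgroups commute because the two roots are swapped by an element of the Weyl group.
-/

set_option autoImplicit false
set_option maxRecDepth 100000

namespace Cfsg.Agent.StMult

open Cfsg.Lie Cfsg.Agent.Lib.Helper5.Chev Cfsg.Agent.Lib.Helper5.St Cfsg.Agent.Lib.Helper5.Tw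
  Cfsg.Agent.Lib.Helper5.UC
open scoped commutatorElement

universe u v

/-- the check that every root pairs to `± 1` with some coroot -/
def partnerb (D : ChevalleyDatum) : Bool :=
  allBelow D.nroots fun r => (List.range D.nroots).any fun a =>
    decide (pairD D a r = 1) || decide (pairD D a r = -1)

theorem partnerb_spec {D : ChevalleyDatum} (h : partnerb D = true) (r : ℕ) (hr : r < D.nroots) :
    ∃ a < D.nroots, pairD D a r = 1 ∨ pairD D a r = -1 := by
  unfold partnerb at h
  have h1 := allBelow_spec _ _ h r hr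
  rw [List.any_eq_true] at h1
  obtain ⟨a, ha, h2⟩ := h1
  rw [Bool.or_eq_true, decide_eq_true_eq, decide_eq_true_eq] at h2
  exact ⟨a, List.mem_range.1 ha, h2⟩

/-- the check of all pairs of positive roots: a torus element, or a word which swaps the two
roots -/
def posSwapb (T : FD) (D : ChevalleyDatum) (Bs : List ℕ) (tab : List (ℕ × ℕ × List ℕ)) : Bool :=
  allBelow D.nroots fun r => allBelow D.nroots fun s =>
    Nat.blt r (D.nroots / 2) || Nat.blt s (D.nroots / 2) || Nat.beq s r || torusb D false r s ||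
      (comm0b T r s && comm0b T s r && tab.any fun e =>
        (Nat.beq e.1 r && Nat.beq e.2.1 s || Nat.beq e.1 s && Nat.beq e.2.1 r) &&
          swapb D Bs e.1 e.2.1 e.2.2)

/-- the words which swap the pairs of orthogonal positive roots of type `D₄` -/
def d4swapTab : List (ℕ × ℕ × List ℕ) :=
  [(12, 13, [1, 3, 2, 1]), (12, 18, [1, 3, 0, 1]), (12, 23, [1, 2, 0, 1]),
   (13, 18, [1, 2, 0, 1]), (13, 23, [1, 3, 0, 1]), (14, 17, [3, 2]), (14, 20, [3, 0]),
   (14, 21, [2, 0]), (15, 16, [3, 2]), (15, 19, [3, 0]), (15, 22, [2, 0]),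
   (16, 19, [2, 0]), (16, 22, [3, 0]), (17, 20, [2, 0]), (17, 21, [3, 0]),
   (18, 23, [1, 3, 2, 1]), (19, 22, [3, 2]), (20, 21, [3, 2])]

theorem d4_posSwap : posSwapb DataD4.fd chevD4 BsD4.Bs d4swapTab = true := by decide +kernel

theorem d4_partner : partnerb chevD4 = true := by decide +kernel

/-- type `D₄`: the relations lift to the central extensions, over the field with three
elements -/
theorem lifts_D4_three {K : Type u} [Field K] [Fintype K] (hK : Fintype.card K = 3) :
    Lifts.{u, v} K chevD4 := by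
  classical
  intro E _ X
  obtain ⟨hel, h3⟩ := field_three hK
  have hm1 : (-1 : K) ≠ 1 := by
    intro e
    have e2 : (1 : K) + 1 = 0 := by nth_rw 2 [← e]; exact add_neg_cancel 1
    rw [e2, zero_add] at h3
    exact one_ne_zero h3
  have hm0 : (-1 : K) ≠ 0 := neg_ne_zero.2 one_ne_zero
  have hA := (DtD4.uctx K).C.hA
  have hpt : ∀ r < chevD4.nroots, ∃ a < chevD4.nroots, (-1 : K) ^ pairD chevD4 a r ≠ 1 := by
    intro r hr
    obtain ⟨a, ha, h | h⟩ := partnerb_spec d4_partner r hr
    · exact ⟨a, ha, by rw [h, zpow_one]; exact hm1⟩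
    · exact ⟨a, ha, by rw [h, zpow_neg_one, inv_neg, inv_one]; exact hm1⟩
  let pt : ℕ → ℕ := fun r => if h : r < chevD4.nroots then (hpt r h).choose else 0
  have hptS : ∀ r (h : r < chevD4.nroots),
      pt r < chevD4.nroots ∧ (-1 : K) ^ pairD chevD4 (pt r) r ≠ 1 := by
    intro r h
    have e : pt r = (hpt r h).choose := dif_pos h
    rw [e]
    exact (hpt r h).choose_spec
  let F : Fam X (DtD4.uctx K).C := X.torFam (DtD4.uctx K).C (fun r => X.hU (pt r) (-1))
    (fun r => (-1 : K) ^ pairD chevD4 (pt r) r)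
    (fun r hr => X.torOK_hU (hptS r hr).1 hr (-1) hm0 (hptS r hr).2) (sr_D4 X)
  refine ⟨F.Y, F.rel_all (DtD4.uctx K) ?_⟩
  intro r hr s hs hpr hps hne
  have h := d4_posSwap
  unfold posSwapb at h
  have h1 := allBelow_spec _ _ (allBelow_spec _ _ h r hr) s hs
  simp only [Bool.or_eq_true, Nat.blt_eq, Bool.and_eq_true, List.any_eq_true] at h1
  rcases h1 with (((h1 | h1) | h1) | h1) | ⟨⟨h1, h1'⟩, e, -, h2, h4⟩
  · omega
  · omega
  · exact absurd (FD.nbeq.1 h1) hne
  · exact Or.inl (F.treat_of_pair (-1) hm0 hm1 (two := false) (fun h => absurd h Bool.false_ne_true)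
      hr hs (torusb_spec h1))
  · have hc0 := comm0b_spec hA h1
    have hc0' := comm0b_spec hA h1'
    refine Or.inl (Or.inr (Or.inl ⟨hc0.2.2.2.2, ?_⟩))
    rcases h2 with ⟨h5, h6⟩ | ⟨h5, h6⟩
    · rw [FD.nbeq.1 h5, FD.nbeq.1 h6] at h4
      exact X.lc_of_swapWord (DtD4.uctx K).C hel h3 hc0 h4
    · rw [FD.nbeq.1 h5, FD.nbeq.1 h6] at h4
      exact (X.lc_of_swapWord (DtD4.uctx K).C hel h3 hc0' h4).symm

end Cfsg.Agent.StMult
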