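import Cfsg.Agent.Lib.Helper5.UC.Lifts
import Cfsg.Agent.Lib.Lead.MilnorSteinA
import Mathlib

/-!
# Central extensions of a Chevalley group, no assumption on the field (lead)

The set-up of `Lib/Helper5/UC/Ext` and `Lib/Lead/F4Mult/ExtS` without any assumption on the size
of the field and without a choice of torus elements.
-/

set_option autoImplicit false

namespace Cfsg.Agent.StMult

open Cfsg.Lie Cfsg.Agent.Lib.Helper5.Chev Cfsg.Agent.Lib.Helper5.St Cfsg.Agent.Lib.Helper5.Tw
  Cfsg.Agent.Lib.Helper5.UC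
open scoped commutatorElement

/-- a homomorphism onto (at least) the Chevalley group with central kernel -/
structure Ext0 (K : Type*) [Field K] (D : ChevalleyDatum) (E : Type*) [Group E] where
  hD : D ∈ [chevG2, chevB2, chevD4, chevF4, chevE6, chevE7, chevE8]
  Ψ : E →* GL D.Idx K
  hsurj : ∀ g ∈ D.group K, ∃ e, Ψ e = g
  hc : ∀ z : E, Ψ z = 1 → ∀ e : E, z * e = e * z

namespace Ext0

variable {K : Type*} [Field K] {D : ChevalleyDatum} {E : Type*} [Group E] (X : Ext0 K D E)

include X in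
theorem hadd : AllAdd K D := allAdd_all D X.hD

/-- the root elements -/
def x (r : ℕ) (t : K) : GL D.Idx K := X.hadd.xU r t

theorem x_add (r : ℕ) (t u : K) : X.x r (t + u) = X.x r t * X.x r u := by
  apply Units.ext
  rw [Units.val_mul]
  exact (X.hadd.x_add r t u).symm

theorem x_zero' (r : ℕ) : X.x r 0 = 1 := fam_zero (X.x r) (X.x_add r)

theorem x_neg (r : ℕ) (t : K) : X.x r (-t) = (X.x r t)⁻¹ := fam_neg (X.x r) (X.x_add r) t

theorem x_inj (r : ℕ) (hr : r < D.nroots) (t u : K) (h : X.x r t = X.x r u) : t = u :=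
  xU_injective X.hadd r (xInj_all D X.hD r hr) t u h

theorem lift_x (r : ℕ) (t : K) : ∃ e, X.Ψ e = X.x r t := X.hsurj _ (X.hadd.xU_mem_group r t)

theorem lift_diag (h : GL D.Idx K) (hh : h ∈ D.diagonalSubgroup K) : ∃ e, X.Ψ e = h :=
  X.hsurj _ (X.hadd.diagonal_le hh)

/-- `h_a(c)` as a unit -/
def hU (a : ℕ) (c : K) : GL D.Idx K := X.hadd.wordU (D.hWord a c)

theorem hU_mem (a : ℕ) (ha : a < D.nroots) (c : K) (hc : c ≠ 0) :
    X.hU a c ∈ D.diagonalSubgroup K :=
  Subgroup.subset_closure ⟨a, c, ha, hc, X.hadd.wordU_val _⟩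

theorem hU_conj (a v : ℕ) (ha : a < D.nroots) (hv : v < D.nroots) (c : K) (hc : c ≠ 0) (u : K) :
    X.hU a c * X.x v u * (X.hU a c)⁻¹ = X.x v (c ^ (pairD D a v) * u) := by
  obtain ⟨χ, h1, h2⟩ := diag_conj_char D X.hD (X.hU a c) (X.hU_mem a ha c hc)
  have e : (χ v : K) = c ^ pairD D a v := by
    have h3 : D.charDiag K χ = dK K D (pairD D a) c := by
      rw [← h1]
      exact (X.hadd.wordU_val _).trans (hMat_eq_dK_all D X.hD a ha c hc)
    have := congrFun (congrFun h3 (Sum.inr ⟨v, hv⟩)) (Sum.inr ⟨v, hv⟩)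
    unfold ChevalleyDatum.charDiag dK at this
    rw [Matrix.diagonal_apply_eq, Matrix.diagonal_apply_eq] at this
    exact this
  rw [← e]
  exact h2 v hv u

/-- lifts of root elements of the root `r` commute -/
def SR (r : ℕ) : Prop :=
  ∀ (b b' : E) (t u : K), X.Ψ b = X.x r t → X.Ψ b' = X.x r u → b * b' = b' * b

/-- lifts of root elements of the roots `r`, `s` commute -/
def LC (r s : ℕ) : Prop :=
  ∀ (b b' : E) (t u : K), X.Ψ b = X.x r t → X.Ψ b' = X.x s u → b * b' = b' * b

theorem LC.symm {r s : ℕ} (h : X.LC r s) : X.LC s r :=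
  fun b b' t u hb hb' => (h b' b u t hb' hb).symm

/-! ### commutation from the commutator formula -/

/-- the root subgroups of `r` and `s` commute elementwise, by the commutator formula -/
def Comm0 (D : ChevalleyDatum) (r s : ℕ) : Prop :=
  r < D.nroots ∧ s < D.nroots ∧ s ≠ r ∧ s ≠ D.neg r ∧ D.commTerms r s = []

theorem x_comm_of {r s : ℕ} (h : Comm0 D r s) (t u : K) :
    X.x s u * X.x r t = X.x r t * X.x s u := by
  obtain ⟨hr, hs, hne, hneg, hterms⟩ := h
  apply Units.ext
  rw [Units.val_mul, Units.val_mul]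
  have := comm_formula (F := K) D X.hD r s hr hs hne hneg t u
  unfold ChevalleyDatum.commWord at this
  rw [hterms] at this
  show D.x K s u * D.x K r t = D.x K r t * D.x K s u
  rw [this, List.map_nil]
  unfold ChevalleyDatum.wordMat
  rw [List.map_nil, List.prod_nil, mul_one]

/-- the root `s` is the sum of the roots `g`, `d`, with a commutator formula with one term, whose
coefficient is `c` -/
def Dec (D : ChevalleyDatum) (s g d : ℕ) (c : ℤ) : Prop :=
  g < D.nroots ∧ d < D.nroots ∧ d ≠ g ∧ d ≠ D.neg g ∧ D.commTerms g d = [(s, c, 1, 1)]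

theorem x_dec {s g d : ℕ} {c : ℤ} (h : Dec D s g d c) (a b : K) :
    ⁅X.x d a, X.x g b⁆ = X.x s (-((c : ℤ) : K) * a * b) := by
  obtain ⟨hg, hd, hne, hneg, hterms⟩ := h
  have key : X.x d (-a) * X.x g (-b) = X.x g (-b) * X.x d (-a) * X.x s (-((c : ℤ) : K) * a * b) := by
    apply Units.ext
    rw [Units.val_mul, Units.val_mul, Units.val_mul]
    have := comm_formula (F := K) D X.hD g d hg hd hne hneg (-b) (-a)
    unfold ChevalleyDatum.commWord at this
    rw [hterms] at this
    show D.x K d (-a) * D.x K g (-b) = D.x K g (-b) * D.x K d (-a) * D.x K s (-((c : ℤ) : K) * a * b)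
    rw [this, List.map_cons, List.map_nil]
    unfold ChevalleyDatum.wordMat
    rw [List.map_cons, List.map_nil, List.prod_cons, List.prod_nil, mul_one]
    congr 2
    ring
  rw [X.x_neg, X.x_neg] at key
  rw [commutatorElement_def]
  have : X.x s (-((c : ℤ) : K) * a * b)
      = ((X.x g b)⁻¹ * (X.x d a)⁻¹)⁻¹ * ((X.x d a)⁻¹ * (X.x g b)⁻¹) := by
    rw [key]
    group
  rw [this]
  group

/-- a lift of an element commuting with the images of two elements commutes with the commutator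
of these -/
theorem commute_comm' {b g d : E} (hg : X.Ψ b * X.Ψ g = X.Ψ g * X.Ψ b)
    (hd : X.Ψ b * X.Ψ d = X.Ψ d * X.Ψ b) : Commute b ⁅g, d⁆ := by
  apply Cfsg.Agent.MilnorStein.commute_comm X.hc
  · rw [map_commutatorElement, commutatorElement_eq_one_iff_commute]
    exact hg
  · rw [map_commutatorElement, commutatorElement_eq_one_iff_commute]
    exact hd

/-- lifts of the elements of two root subgroups commute, if the second root is the sum of two roots
whose root subgroups commute with the first one -/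
theorem lc_of_dec {r s g d : ℕ} {c : ℤ} (hdec : Dec D s g d c) (hcu : ((c : ℤ) : K) ≠ 0)
    (hg : Comm0 D r g) (hd : Comm0 D r d) : X.LC r s := by
  intro b b' t u hb hb'
  obtain ⟨G, hG⟩ := X.lift_x d (-u / ((c : ℤ) : K))
  obtain ⟨Dd, hDd⟩ := X.lift_x g 1
  have hGD : X.Ψ ⁅G, Dd⁆ = X.x s u := by
    rw [map_commutatorElement, hG, hDd, X.x_dec hdec]
    congr 1
    field_simp
  have hcm : Commute b ⁅G, Dd⁆ := by
    apply X.commute_comm'
    · rw [hb, hG]
      exact (X.x_comm_of hd t _).symm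
    · rw [hb, hDd]
      exact (X.x_comm_of hg t _).symm
  have hz : X.Ψ (⁅G, Dd⁆⁻¹ * b') = 1 := by rw [map_mul, map_inv, hGD, hb', inv_mul_cancel]
  have hzc : Commute b (⁅G, Dd⁆⁻¹ * b') := (X.hc _ hz b).symm
  have e : b' = ⁅G, Dd⁆ * (⁅G, Dd⁆⁻¹ * b') := by group
  rw [e]
  exact hcm.mul_right hzc

/-- lifts of the elements of two commuting root subgroups commute, if some torus element
centralises the first one and acts on the second one by a scalar different from one -/
theorem lc_of_torus {r s : ℕ} (hrs : ∀ t u, X.x r t * X.x s u = X.x s u * X.x r t)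
    (h : GL D.Idx K) (hh : h ∈ D.diagonalSubgroup K) (v : K) (hv : v ≠ 1)
    (hhr : ∀ t, h * X.x r t * h⁻¹ = X.x r t) (hhs : ∀ u, h * X.x s u * h⁻¹ = X.x s (v * u)) :
    X.LC r s := by
  obtain ⟨a, ha⟩ := X.lift_diag h hh
  apply comm0 X.Ψ X.hc (X.x r) (X.x s) (X.x_add s) ?_ (X.lift_x s) v hv a
  · intro t
    rw [ha]
    exact hhr t
  · intro u
    rw [ha]
    exact hhs u
  · exact hrs

variable {T : FD} {Bs : List ℕ} {gH : ℕ} {baseH : List ℕ} {fuel : ℕ}
  (C : StCtx K D T Bs gH baseH fuel)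

include C

theorem lift_n (i : ℕ) : ∃ e, X.Ψ e = nUi C.hA X.hadd i :=
  X.hsurj _ (X.hadd.monomial_le (nUi_mem C.hA X.hadd i))

theorem n_conj (i : ℕ) (hi : i < D.rank) (s : ℕ) (hs : s < D.nroots) (t : K) :
    nUi C.hA X.hadd i * X.x s t * (nUi C.hA X.hadd i)⁻¹
      = X.x (wOf (Bs.getD i 0) s) (((etaOf (Bs.getD i 0) s : ℤ) : K) * t) :=
  conjU C.hA X.hadd hi (C.hB i hi) s hs t

/-- transport of the commutation of lifts along a fundamental reflection -/
theorem lc_transfer (i : ℕ) (hi : i < D.rank) (r s : ℕ) (hr : r < D.nroots) (hs : s < D.nroots)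
    (h : X.LC (wOf (Bs.getD i 0) r) (wOf (Bs.getD i 0) s)) : X.LC r s := by
  obtain ⟨n, hn⟩ := X.lift_n C i
  intro b b' t u hb hb'
  have e1 : X.Ψ (n * b * n⁻¹)
      = X.x (wOf (Bs.getD i 0) r) (((etaOf (Bs.getD i 0) r : ℤ) : K) * t) := by
    rw [map_mul, map_mul, map_inv, hn, hb, X.n_conj C i hi r hr]
  have e2 : X.Ψ (n * b' * n⁻¹)
      = X.x (wOf (Bs.getD i 0) s) (((etaOf (Bs.getD i 0) s : ℤ) : K) * u) := by
    rw [map_mul, map_mul, map_inv, hn, hb', X.n_conj C i hi s hs]
  have := h _ _ _ _ e1 e2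
  calc b * b' = n⁻¹ * ((n * b * n⁻¹) * (n * b' * n⁻¹)) * n := by group
    _ = n⁻¹ * ((n * b' * n⁻¹) * (n * b * n⁻¹)) * n := by rw [this]
    _ = b' * b := by group

theorem lc_transfer' (i : ℕ) (hi : i < D.rank) (r s : ℕ) (hr : r < D.nroots) (hs : s < D.nroots)
    (h : X.LC r s) : X.LC (wOf (Bs.getD i 0) r) (wOf (Bs.getD i 0) s) := by
  have hcert := (C.hB i hi).cert C.hA
  apply X.lc_transfer C i hi _ _ (hcert.w_lt r hr) (hcert.w_lt s hs)
  rw [hcert.w_w r hr, hcert.w_w s hs]
  exact h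

theorem sr_transfer (i : ℕ) (hi : i < D.rank) (r : ℕ) (hr : r < D.nroots)
    (h : X.SR (wOf (Bs.getD i 0) r)) : X.SR r :=
  X.lc_transfer C i hi r r hr hr h

theorem sr_all (hsimple : ∀ j < D.rank, X.SR (D.simple j)) : ∀ r < D.nroots, X.SR r := by
  apply reach_all C.hA (fun r => X.SR r) Bs gH baseH fuel C.hr
  · intro s hs
    obtain ⟨j, hj, rfl⟩ := C.hbase s hs
    exact hsimple j hj
  · intro i hi s hs
    exact ((C.hB i hi).cert C.hA).w_lt s hs
  · intro i hi s hs h
    exact X.sr_transfer C i hi s hs h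

end Ext0

end Cfsg.Agent.StMult
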