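import Cfsg.Agent.Lib.Lead.StMult.Ext0
import Cfsg.Agent.Lib.Helper5.UC.Tables
import Mathlib

/-!
# Steinberg's argument for an abstract family of lifts of the root elements (lead)

The arguments of `Lib/Helper5/UC/{Step, Pos, Transport}` for a family of lifts which is only known
to be additive and compatible with the lifts of the torus elements and of the elements `n_i`.  A
pair of positive roots is treated by a torus element, by the commutation of all lifts, directly,
or from the pair in the other order.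
-/

set_option autoImplicit false

namespace Cfsg.Agent.StMult

open Cfsg.Lie Cfsg.Agent.Lib.Helper5.Chev Cfsg.Agent.Lib.Helper5.St Cfsg.Agent.Lib.Helper5.Tw
  Cfsg.Agent.Lib.Helper5.UC
open scoped commutatorElement IsMulCommutative

/-- a family of lifts of the root elements: additive, compatible with the lifts of the torus
elements and of the elements `n_i` -/
structure Fam {K : Type*} [Field K] {D : ChevalleyDatum} {E : Type*} [Group E] (X : Ext0 K D E)
    {T : FD} {Bs : List ℕ} {gH : ℕ} {baseH : List ℕ} {fuel : ℕ}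
    (C : StCtx K D T Bs gH baseH fuel) where
  Y : ℕ → K → E
  map_Y : ∀ r < D.nroots, ∀ t : K, X.Ψ (Y r t) = X.x r t
  add : ∀ r < D.nroots, ∀ t u : K, Y r t * Y r u = Y r (t + u)
  tor : ∀ r < D.nroots, ∀ (a : E) (h : GL D.Idx K), h ∈ D.diagonalSubgroup K → ∀ χ : K,
    (∀ t, h * X.x r t * h⁻¹ = X.x r (χ * t)) → X.Ψ a = h → ∀ t : K, a * Y r t * a⁻¹ = Y r (χ * t)
  nconj : ∀ i < D.rank, ∀ r < D.nroots, ∀ n : E, X.Ψ n = nUi C.hA X.hadd i → ∀ t : K,
    n * Y r t * n⁻¹ = Y (wOf (Bs.getD i 0) r) (((etaOf (Bs.getD i 0) r : ℤ) : K) * t)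

namespace Fam

variable {K : Type*} [Field K] {D : ChevalleyDatum} {E : Type*} [Group E] {X : Ext0 K D E}
  {T : FD} {Bs : List ℕ} {gH : ℕ} {baseH : List ℕ} {fuel : ℕ}
  {C : StCtx K D T Bs gH baseH fuel} (F : Fam X C)

theorem rel1 (r : ℕ) (hr : r < D.nroots) : Rel1 F.Y r := fun t u => F.add r hr t u

theorem map_Y' : ∀ r < D.nroots, ∀ t : K, X.Ψ (F.Y r t) = X.hadd.xU r t :=
  fun r hr t => F.map_Y r hr t

/-- Steinberg's argument -/
theorem step (r s : ℕ) (hr : r < D.nroots) (hs : s < D.nroots) (hne : s ≠ r)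
    (hneg : s ≠ D.neg r) (M : List ℕ) (hsM : s ∈ M) (hterms : ∀ c ∈ D.commTerms r s, c.1 ∈ M)
    (hgood : GoodL D M) (hrel : GoodP F.Y D M) (hinj : RData.InjL K D X.hadd M)
    (h : GL D.Idx K) (hh : h ∈ D.diagonalSubgroup K) (v : K) (hv : v ≠ 1)
    (hhr : ∀ t, h * X.x r t * h⁻¹ = X.x r t) (hhs : ∀ u, h * X.x s u * h⁻¹ = X.x s (v * u)) :
    Rel2 F.Y D r s := by
  classical
  have hMlt : ∀ k ∈ M, k < D.nroots := RData.goodL_lt hgood
  have hΨ := F.map_Y'
  -- the words
  have hWmem : ∀ t u : K, ∀ p ∈ D.commWord K r s t u, p.1 ∈ M := by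
    intro t u p hp
    obtain ⟨c, hc, e⟩ := RData.commWord_mem r s t u p hp
    rw [e]
    exact hterms c hc
  have hW : ∀ t u : K, wordG F.Y (D.commWord K r s t u) ∈ ULY F.Y M :=
    fun t u => wordG_mem_ULY F.Y M _ (hWmem t u)
  have hYs : ∀ u : K, F.Y s u ∈ ULY F.Y M := fun u => Y_mem_ULY F.Y M s hsM u
  -- the defect
  obtain ⟨f, hf⟩ : ∃ f : K → K → E, ∀ t u, f t u =
      (F.Y r t * F.Y s u * wordG F.Y (D.commWord K r s t u))⁻¹ * (F.Y s u * F.Y r t) :=
    ⟨_, fun _ _ => rfl⟩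
  have hfdef : ∀ t u, F.Y s u * F.Y r t
      = F.Y r t * F.Y s u * wordG F.Y (D.commWord K r s t u) * f t u := by
    intro t u
    rw [hf, mul_inv_cancel_left]
  have hfker : ∀ t u, X.Ψ (f t u) = 1 := by
    intro t u
    rw [hf, map_mul, map_inv, map_mul, map_mul, map_mul, hΨ r hr, hΨ s hs,
      map_wordG X.hadd X.Ψ hΨ _ (fun p hp => hMlt _ (hWmem t u p hp)), inv_mul_eq_one]
    apply Units.ext
    rw [Units.val_mul, Units.val_mul, Units.val_mul, X.hadd.wordU_val]
    exact (comm_formula D X.hD r s hr hs hne hneg t u).symm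
  have hfc : ∀ t u e, f t u * e = e * f t u := fun t u e => X.hc _ (hfker t u) e
  have hconj : ∀ t u, (F.Y r t)⁻¹ * F.Y s u * F.Y r t
      = F.Y s u * wordG F.Y (D.commWord K r s t u) * f t u := by
    intro t u
    rw [mul_assoc, hfdef t u]
    group
  -- injectivity
  have hker1 : ∀ g ∈ ULY F.Y M, X.Ψ g = 1 → g = 1 :=
    fun g hg h1 => inj_ULY X.hadd X.Ψ hΨ M hgood hrel hinj g hg h1
  -- additivity in the second variable
  have hadd2 : ∀ t u u', f t (u + u') = f t u * f t u' := by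
    intro t u u'
    obtain ⟨A, hA⟩ : ∃ A, A = F.Y s (u + u') * wordG F.Y (D.commWord K r s t (u + u')) := ⟨_, rfl⟩
    obtain ⟨B, hB⟩ : ∃ B, B = F.Y s u * wordG F.Y (D.commWord K r s t u) *
      (F.Y s u' * wordG F.Y (D.commWord K r s t u')) := ⟨_, rfl⟩
    have key : A * f t (u + u') = B * (f t u * f t u') := by
      calc A * f t (u + u') = (F.Y r t)⁻¹ * F.Y s (u + u') * F.Y r t := by
            rw [hA]
            exact (hconj t (u + u')).symm
        _ = ((F.Y r t)⁻¹ * F.Y s u * F.Y r t) * ((F.Y r t)⁻¹ * F.Y s u' * F.Y r t) := by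
          rw [← F.rel1 s hs u u']
          group
        _ = (F.Y s u * wordG F.Y (D.commWord K r s t u) * f t u) *
            (F.Y s u' * wordG F.Y (D.commWord K r s t u') * f t u') := by
          rw [hconj, hconj]
        _ = F.Y s u * wordG F.Y (D.commWord K r s t u) *
            (f t u * (F.Y s u' * wordG F.Y (D.commWord K r s t u'))) * f t u' := by group
        _ = F.Y s u * wordG F.Y (D.commWord K r s t u) *
            ((F.Y s u' * wordG F.Y (D.commWord K r s t u')) * f t u) * f t u' := by rw [hfc t u]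
        _ = B * (f t u * f t u') := by
          rw [hB]
          group
    have hg : A⁻¹ * B = f t (u + u') * (f t u * f t u')⁻¹ := by
      have : B = A * f t (u + u') * (f t u * f t u')⁻¹ := by
        rw [key]
        group
      rw [this]
      group
    have hmem : A⁻¹ * B ∈ ULY F.Y M := by
      rw [hA, hB]
      exact Subgroup.mul_mem _ (Subgroup.inv_mem _ (Subgroup.mul_mem _ (hYs _) (hW _ _)))
        (Subgroup.mul_mem _ (Subgroup.mul_mem _ (hYs _) (hW _ _))
          (Subgroup.mul_mem _ (hYs _) (hW _ _)))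
    have h1 := hker1 _ hmem (by
      rw [hg, map_mul, map_inv, map_mul, hfker, hfker, hfker, one_mul, one_mul, inv_one])
    have hAB : A = B := by
      have := inv_mul_eq_one.1 h1
      exact this
    rw [hAB] at key
    exact mul_left_cancel key
  -- invariance under the torus element
  obtain ⟨a, ha⟩ := X.lift_diag h hh
  obtain ⟨χ, -, hχ⟩ := diag_conj_char D X.hD h hh
  have har : ∀ t, a * F.Y r t * a⁻¹ = F.Y r t := by
    intro t
    have := F.tor r hr a h hh 1 (fun t' => by rw [one_mul]; exact hhr t') ha t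
    rwa [one_mul] at this
  have has : ∀ u, a * F.Y s u * a⁻¹ = F.Y s (v * u) :=
    fun u => F.tor s hs a h hh v hhs ha u
  have haM : ∀ k ∈ M, ∀ x : K, ∃ x' : K, a * F.Y k x * a⁻¹ = F.Y k x' := by
    intro k hk x
    exact ⟨_, F.tor k (hMlt k hk) a h hh (χ k : K) (fun t' => hχ k (hMlt k hk) t') ha x⟩
  have hinv : ∀ t u, f t (v * u) = f t u := by
    intro t u
    obtain ⟨W', hW'⟩ : ∃ W', W' = a * wordG F.Y (D.commWord K r s t u) * a⁻¹ := ⟨_, rfl⟩
    have hW'mem : W' ∈ ULY F.Y M := by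
      rw [hW']
      exact conj_wordG_mem M a haM _ (hWmem t u)
    have key : wordG F.Y (D.commWord K r s t (v * u)) * f t (v * u) = W' * f t u := by
      have e1 : a * ((F.Y r t)⁻¹ * F.Y s u * F.Y r t) * a⁻¹
          = (F.Y r t)⁻¹ * F.Y s (v * u) * F.Y r t := by
        calc a * ((F.Y r t)⁻¹ * F.Y s u * F.Y r t) * a⁻¹
            = (a * F.Y r t * a⁻¹)⁻¹ * (a * F.Y s u * a⁻¹) * (a * F.Y r t * a⁻¹) := by group
          _ = _ := by rw [har, has]
      have e2 : a * (F.Y s u * wordG F.Y (D.commWord K r s t u) * f t u) * a⁻¹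
          = F.Y s (v * u) * W' * f t u := by
        calc a * (F.Y s u * wordG F.Y (D.commWord K r s t u) * f t u) * a⁻¹
            = (a * F.Y s u * a⁻¹) * (a * wordG F.Y (D.commWord K r s t u) * a⁻¹) *
              (a * f t u * a⁻¹) := by group
          _ = _ := by
            rw [has, ← hW', ← hfc t u a, mul_inv_cancel_right]
      have e3 : F.Y s (v * u) * wordG F.Y (D.commWord K r s t (v * u)) * f t (v * u)
          = F.Y s (v * u) * W' * f t u := by
        rw [← hconj t (v * u), ← e1, hconj t u, e2]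
      rw [mul_assoc, mul_assoc (F.Y s (v * u)) W'] at e3
      exact mul_left_cancel e3
    have hg : (wordG F.Y (D.commWord K r s t (v * u)))⁻¹ * W' = f t (v * u) * (f t u)⁻¹ := by
      have : W' = wordG F.Y (D.commWord K r s t (v * u)) * f t (v * u) * (f t u)⁻¹ := by
        rw [key]
        group
      rw [this]
      group
    have hmem : (wordG F.Y (D.commWord K r s t (v * u)))⁻¹ * W' ∈ ULY F.Y M :=
      Subgroup.mul_mem _ (Subgroup.inv_mem _ (hW _ _)) hW'mem
    have h1 := hker1 _ hmem (by rw [hg, map_mul, map_inv, hfker, hfker, one_mul, inv_one])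
    have hWW : wordG F.Y (D.commWord K r s t (v * u)) = W' := inv_mul_eq_one.1 h1
    rw [hWW] at key
    exact mul_left_cancel key
  -- the defect vanishes
  let φ : K → K → Additive (Subgroup.center E) := fun t u =>
    Additive.ofMul ⟨f t u, Subgroup.mem_center_iff.2 (fun e => (hfc t u e).symm)⟩
  have hφ : ∀ t u, φ t u = 0 := by
    apply biadd_zero_of_scale φ _ v hv
    · intro t u
      show Additive.ofMul _ = Additive.ofMul _
      congr 1
      apply Subtype.ext
      exact hinv t u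
    · intro t u u'
      show Additive.ofMul _ = Additive.ofMul (_ * _)
      congr 1
      apply Subtype.ext
      exact hadd2 t u u'
  intro t u
  have h1 : (⟨f t u, Subgroup.mem_center_iff.2 (fun e => (hfc t u e).symm)⟩ : Subgroup.center E)
      = 1 := hφ t u
  have h2 : f t u = 1 := congrArg Subtype.val h1
  rw [hfdef t u, h2, mul_one]

/-! ### the pairs of positive roots -/

/-- the pair `(r, s)` can be treated: by a torus element centralising `X_r` and acting
non-trivially on `X_s`, or because all lifts commute, or directly -/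
def Treat (r s : ℕ) : Prop :=
  (∃ h ∈ D.diagonalSubgroup K, ∃ v : K, v ≠ 1 ∧ (∀ t, h * X.x r t * h⁻¹ = X.x r t) ∧
      (∀ u, h * X.x s u * h⁻¹ = X.x s (v * u))) ∨ (D.commTerms r s = [] ∧ X.LC r s) ∨
    Rel2 F.Y D r s

theorem rel2_of_lc {r s : ℕ} (hr : r < D.nroots) (hs : s < D.nroots) (h0 : D.commTerms r s = [])
    (hlc : X.LC r s) : Rel2 F.Y D r s := by
  intro t u
  unfold ChevalleyDatum.commWord
  rw [h0, List.map_nil, wordG_nil, mul_one]
  exact (hlc _ _ t u (F.map_Y r hr t) (F.map_Y s hs u)).symm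

/-- the torus element `h_a(c)` treats the pair `(r, s)`, if `⟨r, a^∨⟩ = 0` and
`c ^ ⟨s, a^∨⟩ ≠ 1` -/
theorem treat_of_torus {r s a : ℕ} (hr : r < D.nroots) (hs : s < D.nroots) (ha : a < D.nroots)
    (c : K) (hc0 : c ≠ 0) (h0 : pairD D a r = 0) (h1 : c ^ pairD D a s ≠ 1) : F.Treat r s := by
  refine Or.inl ⟨X.hU a c, X.hU_mem a ha _ hc0, c ^ pairD D a s, h1, fun t => ?_, fun u => ?_⟩
  · rw [X.hU_conj a r ha hr _ hc0, h0, zpow_zero, one_mul]
  · rw [X.hU_conj a s ha hs _ hc0]

/-- one step of the induction: a treated pair of positive roots, if the relation is known for the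
pairs of later roots -/
theorem pos_step
    (hgt : ∀ a < D.nroots, ∀ b < D.nroots, D.nroots / 2 ≤ a → D.nroots / 2 ≤ b → b ≠ a →
      ∀ c ∈ D.commTerms a b, a < c.1 ∧ b < c.1)
    (r s : ℕ) (hr : r < D.nroots) (hs : s < D.nroots) (hpr : D.nroots / 2 ≤ r)
    (hps : D.nroots / 2 ≤ s) (hne : s ≠ r)
    (ih : ∀ a b : ℕ, a < D.nroots → b < D.nroots → D.nroots / 2 ≤ a → D.nroots / 2 ≤ b → b ≠ a →
      max r s < max a b → Rel2 F.Y D a b)
    (hT : F.Treat r s) : Rel2 F.Y D r s := by
  have heven := even_all D X.hD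
  have hneg : s ≠ D.neg r := by
    have := neg_lt_half_all D X.hD r hr hpr
    omega
  let P : ℕ → Bool := fun x => decide (x = s) || decide (max r s < x)
  have hPiff : ∀ x, P x = true ↔ x = s ∨ max r s < x := by
    intro x
    simp [P]
  have hmemM : ∀ x, x ∈ (posL D).filter P ↔
      (D.nroots / 2 ≤ x ∧ x < D.nroots) ∧ (x = s ∨ max r s < x) := by
    intro x
    rw [List.mem_filter, mem_posL heven, hPiff]
  have hclosed : ∀ a ∈ posL D, ∀ b ∈ posL D, P a = true → P b = true → b ≠ a →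
      ∀ c ∈ D.commTerms a b, P c.1 = true := by
    intro a ha b hb hPa hPb hba c hc
    rw [mem_posL heven] at ha hb
    rw [hPiff] at hPa hPb ⊢
    obtain ⟨h1, h2⟩ := hgt a ha.2 b hb.2 ha.1 hb.1 hba c hc
    right
    rcases hPa with rfl | hPa
    · rcases hPb with rfl | hPb
      · exact absurd rfl hba
      · omega
    · omega
  have hgood : GoodL D ((posL D).filter P) := goodL_filter P (posL D) C.good hclosed
  rcases hT with ⟨h, hh, v, hv, h1, h2⟩ | ⟨h0, hlc⟩ | hdir
  · refine F.step r s hr hs hne hneg ((posL D).filter P) ?_ ?_ hgood ?_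
      (injL_filter X.hD X.hadd P) h hh v hv h1 h2
    · rw [hmemM]
      exact ⟨⟨hps, hs⟩, Or.inl rfl⟩
    · intro c hc
      obtain ⟨h1, h2⟩ := hgt r hr s hs hpr hps hne c hc
      have hclt : c.1 < D.nroots := by
        rw [FD.commTerms_eq C.hA r s hr hs] at hc
        exact FD.commTerms_lt C.hA r s hr hs c hc
      rw [hmemM]
      refine ⟨⟨by omega, hclt⟩, Or.inr ?_⟩
      exact max_lt h1 h2
    · apply goodP_of _ hgood
      · intro a ha
        exact F.rel1 a (RData.goodL_lt hgood a ha)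
      · intro a ha b hb hba
        rw [hmemM] at ha hb
        apply ih a b ha.1.2 hb.1.2 ha.1.1 hb.1.1 hba
        rcases ha.2 with rfl | h1
        · rcases hb.2 with rfl | h2
          · exact absurd rfl hba
          · exact lt_of_lt_of_le h2 (le_max_right _ _)
        · exact lt_of_lt_of_le h1 (le_max_left _ _)
  · exact F.rel2_of_lc hr hs h0 hlc
  · exact hdir

/-- the relation (R2) for all pairs of positive roots -/
theorem pos_rel2
    (hT : ∀ r < D.nroots, ∀ s < D.nroots, D.nroots / 2 ≤ r → D.nroots / 2 ≤ s → s ≠ r →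
      F.Treat r s ∨ (F.Treat s r ∧ (Rel2 F.Y D s r → Rel2 F.Y D r s)))
    (hgt : ∀ a < D.nroots, ∀ b < D.nroots, D.nroots / 2 ≤ a → D.nroots / 2 ≤ b → b ≠ a →
      ∀ c ∈ D.commTerms a b, a < c.1 ∧ b < c.1) :
    ∀ k r s : ℕ, r < D.nroots → s < D.nroots → D.nroots / 2 ≤ r → D.nroots / 2 ≤ s → s ≠ r →
      D.nroots ≤ max r s + k → Rel2 F.Y D r s := by
  intro k
  induction k with
  | zero =>
    intro r s hr hs _ _ _ hk
    exfalso
    have : max r s < D.nroots := max_lt hr hs
    omega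
  | succ k ih =>
    intro r s hr hs hpr hps hne hk
    by_cases hk' : D.nroots ≤ max r s + k
    · exact ih r s hr hs hpr hps hne hk'
    · have ih' : ∀ a b : ℕ, a < D.nroots → b < D.nroots → D.nroots / 2 ≤ a → D.nroots / 2 ≤ b →
          b ≠ a → max r s < max a b → Rel2 F.Y D a b := by
        intro a b ha hb hpa hpb hba hlt
        exact ih a b ha hb hpa hpb hba (by omega)
      rcases hT r hr s hs hpr hps hne with h | ⟨h, himp⟩
      · exact F.pos_step hgt r s hr hs hpr hps hne ih' h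
      · apply himp
        apply F.pos_step hgt s r hs hr hps hpr hne.symm ?_ h
        intro a b ha hb hpa hpb hba hlt
        rw [max_comm] at hlt
        exact ih' a b ha hb hpa hpb hba hlt

/-! ### transport along the Weyl group -/

/-- transport of the relation (R2) along a fundamental reflection -/
theorem rel2_transfer (hcw : CommW T D Bs) (i : ℕ) (hi : i < D.rank) (r s : ℕ)
    (hr : r < D.nroots) (hs : s < D.nroots)
    (h : Rel2 F.Y D r s) : Rel2 F.Y D (wOf (Bs.getD i 0) r) (wOf (Bs.getD i 0) s) := by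
  intro t' u'
  obtain ⟨n, hn⟩ := X.lift_n C i
  have hcert := (C.hB i hi).cert C.hA
  have hwr := hcert.w_lt r hr
  have hws := hcert.w_lt s hs
  have hηr := hcert.eta_sq (F := K) r hr
  have hηs := hcert.eta_sq (F := K) s hs
  have cY : ∀ k < D.nroots, ∀ x : K, n * F.Y k x * n⁻¹
      = F.Y (wOf (Bs.getD i 0) k) (((etaOf (Bs.getD i 0) k : ℤ) : K) * x) := fun k hk x =>
    F.nconj i hi k hk n hn x
  have key := h (((etaOf (Bs.getD i 0) r : ℤ) : K) * t') (((etaOf (Bs.getD i 0) s : ℤ) : K) * u')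
  have e1 : n * F.Y r (((etaOf (Bs.getD i 0) r : ℤ) : K) * t') * n⁻¹
      = F.Y (wOf (Bs.getD i 0) r) t' := by
    rw [cY r hr, ← mul_assoc, hηr, one_mul]
  have e2 : n * F.Y s (((etaOf (Bs.getD i 0) s : ℤ) : K) * u') * n⁻¹
      = F.Y (wOf (Bs.getD i 0) s) u' := by
    rw [cY s hs, ← mul_assoc, hηs, one_mul]
  have hlt : ∀ p ∈ D.commWord K r s (((etaOf (Bs.getD i 0) r : ℤ) : K) * t')
      (((etaOf (Bs.getD i 0) s : ℤ) : K) * u'), p.1 < D.nroots := by
    intro p hp'
    unfold ChevalleyDatum.commWord at hp'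
    rw [List.mem_map] at hp'
    obtain ⟨c', hc', rfl⟩ := hp'
    rw [FD.commTerms_eq C.hA r s hr hs] at hc'
    exact FD.commTerms_lt C.hA r s hr hs c' hc'
  have e4 : (D.commWord K r s (((etaOf (Bs.getD i 0) r : ℤ) : K) * t')
      (((etaOf (Bs.getD i 0) s : ℤ) : K) * u')).map
      (fun p => (wOf (Bs.getD i 0) p.1, ((etaOf (Bs.getD i 0) p.1 : ℤ) : K) * p.2))
      = D.commWord K (wOf (Bs.getD i 0) r) (wOf (Bs.getD i 0) s) t' u' := by
    unfold ChevalleyDatum.commWord
    rw [FD.commTerms_eq C.hA _ _ hwr hws, FD.commTerms_eq C.hA r s hr hs, hcw i hi r hr s hs,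
      List.map_map, List.map_map]
    apply List.map_congr_left
    intro c' _
    simp only [Function.comp, phiW]
    congr 1
    push_cast
    have a1 : (-(((etaOf (Bs.getD i 0) r : ℤ) : K) * t')) ^ c'.2.2.1
        = ((etaOf (Bs.getD i 0) r : ℤ) : K) ^ c'.2.2.1 * (-t') ^ c'.2.2.1 := by
      rw [← mul_pow]; congr 1; ring
    rw [a1, mul_pow]
    ring
  have e3 : n * wordG F.Y (D.commWord K r s (((etaOf (Bs.getD i 0) r : ℤ) : K) * t')
      (((etaOf (Bs.getD i 0) s : ℤ) : K) * u')) * n⁻¹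
      = wordG F.Y (D.commWord K (wOf (Bs.getD i 0) r) (wOf (Bs.getD i 0) s) t' u') := by
    rw [conj_wordG_map n (fun p => (wOf (Bs.getD i 0) p.1, ((etaOf (Bs.getD i 0) p.1 : ℤ) : K) * p.2))
      _ (fun p hp => cY p.1 (hlt p hp) p.2), e4]
  calc F.Y (wOf (Bs.getD i 0) s) u' * F.Y (wOf (Bs.getD i 0) r) t'
      = n * (F.Y s (((etaOf (Bs.getD i 0) s : ℤ) : K) * u') *
          F.Y r (((etaOf (Bs.getD i 0) r : ℤ) : K) * t')) * n⁻¹ := by
        rw [← e1, ← e2]
        group
    _ = n * (F.Y r (((etaOf (Bs.getD i 0) r : ℤ) : K) * t') *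
          F.Y s (((etaOf (Bs.getD i 0) s : ℤ) : K) * u') *
          wordG F.Y (D.commWord K r s (((etaOf (Bs.getD i 0) r : ℤ) : K) * t')
            (((etaOf (Bs.getD i 0) s : ℤ) : K) * u'))) * n⁻¹ := by rw [key]
    _ = _ := by
        rw [← e1, ← e2, ← e3]
        group

/-- the relation (R2) for the pair `(r, s)`, or `s = ± r` -/
def Rel2' (r s : ℕ) : Prop := s = r ∨ s = D.neg r ∨ Rel2 F.Y D r s

theorem rel2'_transfer (hcw : CommW T D Bs) (i : ℕ) (hi : i < D.rank) (r s : ℕ)
    (hr : r < D.nroots) (hs : s < D.nroots) (h : F.Rel2' r s) :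
    F.Rel2' (wOf (Bs.getD i 0) r) (wOf (Bs.getD i 0) s) := by
  have hcert := (C.hB i hi).cert C.hA
  rcases h with rfl | rfl | h
  · exact Or.inl rfl
  · right; left
    rw [FD.neg_eq' C.hA _ (hcert.w_lt r hr), FD.neg_eq' C.hA r hr, hcert.neg_w r hr]
  · exact Or.inr (Or.inr (F.rel2_transfer hcw i hi r s hr hs h))

theorem rel2'_transfer_back (hcw : CommW T D Bs) (i : ℕ) (hi : i < D.rank) (r s : ℕ)
    (hr : r < D.nroots) (hs : s < D.nroots)
    (h : F.Rel2' (wOf (Bs.getD i 0) r) (wOf (Bs.getD i 0) s)) : F.Rel2' r s := by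
  have hcert := (C.hB i hi).cert C.hA
  have := F.rel2'_transfer hcw i hi _ _ (hcert.w_lt r hr) (hcert.w_lt s hs) h
  rwa [hcert.w_w r hr, hcert.w_w s hs] at this

theorem rel2'_word (hcw : CommW T D Bs) : ∀ (L : List ℕ), (∀ i ∈ L, i < D.rank) → ∀ r s : ℕ,
    r < D.nroots → s < D.nroots → F.Rel2' (wW' Bs L r) (wW' Bs L s) → F.Rel2' r s
  | [], _, _, _, _, _, h => h
  | i :: L, hL, r, s, hr, hs, h => by
    have hi := hL i List.mem_cons_self
    have hcert := (C.hB i hi).cert C.hA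
    have h1 := rel2'_word hcw L (fun j hj => hL j (List.mem_cons_of_mem _ hj)) _ _
      (hcert.w_lt r hr) (hcert.w_lt s hs) h
    exact F.rel2'_transfer_back hcw i hi r s hr hs h1

/-- the relation (R2) for all pairs of roots, from the pairs of positive roots -/
theorem rel2_all (hcw : CommW T D Bs)
    (hpos : ∀ r s : ℕ, r < D.nroots → s < D.nroots → D.nroots / 2 ≤ r → D.nroots / 2 ≤ s →
      s ≠ r → Rel2 F.Y D r s)
    (g1 : ℕ) (base1 : List ℕ) (fuel1 : ℕ) (hr1 : reachb T Bs g1 base1 fuel1 = true)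
    (hrow : ∀ r0 ∈ base1, r0 < D.nroots ∧ ∃ (g2 : ℕ) (base2 : List ℕ) (fuel2 : ℕ),
      reachFb T Bs g2 base2 r0 fuel2 = true ∧
      ∀ s ∈ base2, s < D.nroots ∧ (s = r0 ∨ s = D.neg r0 ∨ ∃ L : List ℕ,
        (∀ i ∈ L, i < D.rank) ∧ D.nroots / 2 ≤ wW' Bs L r0 ∧ D.nroots / 2 ≤ wW' Bs L s)) :
    ∀ r < D.nroots, ∀ s < D.nroots, F.Rel2' r s := by
  apply reach_all C.hA (fun r => ∀ s < D.nroots, F.Rel2' r s) Bs g1 base1 fuel1 hr1
  · intro r0 hr0
    obtain ⟨hr0lt, g2, base2, fuel2, hrF, hb2⟩ := hrow r0 hr0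
    apply reachF_all C.hA (fun s => F.Rel2' r0 s) Bs g2 base2 r0 fuel2 hrF
    · intro s hs
      obtain ⟨hslt, h | h | ⟨L, hL, h1, h2⟩⟩ := hb2 s hs
      · exact Or.inl h
      · exact Or.inr (Or.inl h)
      · apply F.rel2'_word hcw L hL r0 s hr0lt hslt
        by_cases he : wW' Bs L s = wW' Bs L r0
        · exact Or.inl he
        · exact Or.inr (Or.inr (hpos _ _ (wW'_lt C.hA Bs C.hB L hL r0 hr0lt)
            (wW'_lt C.hA Bs C.hB L hL s hslt) h1 h2 he))
    · intro i hi s hs
      exact ((C.hB i hi).cert C.hA).w_lt s hs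
    · intro i hi hfix s hs h
      have hcert := (C.hB i hi).cert C.hA
      have := F.rel2'_transfer hcw i hi r0 _ hr0lt (hcert.w_lt s hs) h
      rwa [hfix, hcert.w_w s hs] at this
  · intro i hi s hs
    exact ((C.hB i hi).cert C.hA).w_lt s hs
  · intro i hi r hr h s hs
    have hcert := (C.hB i hi).cert C.hA
    exact F.rel2'_transfer_back hcw i hi r s hr hs (h _ (hcert.w_lt s hs))

/-- the family satisfies the relations (R1), (R2), if all pairs of positive roots can be
treated -/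
theorem rel_all (U : UCtx K D T Bs gH baseH fuel)
    (hT : ∀ r < D.nroots, ∀ s < D.nroots, D.nroots / 2 ≤ r → D.nroots / 2 ≤ s → s ≠ r →
      F.Treat r s ∨ (F.Treat s r ∧ (Rel2 F.Y D s r → Rel2 F.Y D r s))) :
    (∀ r < D.nroots, ∀ t : K, X.Ψ (F.Y r t) = X.hadd.xU r t) ∧ (∀ r < D.nroots, Rel1 F.Y r) ∧
      ∀ r < D.nroots, ∀ s < D.nroots, s ≠ r → s ≠ D.neg r → Rel2 F.Y D r s := by
  have hgt' := tgt_of_check C.hA U.gt
  have hpos : ∀ r s : ℕ, r < D.nroots → s < D.nroots → D.nroots / 2 ≤ r → D.nroots / 2 ≤ s →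
      s ≠ r → Rel2 F.Y D r s := fun r s hr hs hpr hps hne =>
    F.pos_rel2 hT hgt' D.nroots r s hr hs hpr hps hne (by omega)
  obtain ⟨g1, base1, fuel1, hr1, hrow⟩ := U.rows
  have hall := F.rel2_all U.cw hpos g1 base1 fuel1 hr1 hrow
  refine ⟨F.map_Y', F.rel1, fun r hr s hs hne hneg => ?_⟩
  rcases hall r hr s hs with h | h | h
  · exact absurd h hne
  · exact absurd h hneg
  · exact h

end Fam

end Cfsg.Agent.StMult
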