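import Cfsg.Agent.Lib.Lead.StMult.Checks
import Cfsg.Agent.Lib.Helper5.UC.Main
import Mathlib

/-!
# Perfectness of a group with root elements satisfying (R1), (R2) (lead)
-/

set_option autoImplicit false

namespace Cfsg.Agent.StMult

open Cfsg.Lie Cfsg.Agent.Lib.Helper5.Chev Cfsg.Agent.Lib.Helper5.St Cfsg.Agent.Lib.Helper5.Tw
  Cfsg.Agent.Lib.Helper5.UC
open scoped commutatorElement

variable {K : Type*} [Field K] {D : ChevalleyDatum} {Γ : Type*} [Group Γ] (R : RData K D Γ)
  {T : FD} {Bs : List ℕ} {gH : ℕ} {baseH : List ℕ} {fuel : ℕ}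

include R in
/-- the group is perfect, if the root elements of the fundamental roots are products of
commutators -/
theorem rdata_perfect_of_simple (C : StCtx K D T Bs gH baseH fuel)
    (hsimple : ∀ j < D.rank, ∀ t : K, R.X (D.simple j) t ∈ commutator Γ) :
    commutator Γ = ⊤ := by
  have hall : ∀ r < D.nroots, ∀ t : K, R.X r t ∈ commutator Γ := by
    apply reach_all C.hA (fun r => ∀ t : K, R.X r t ∈ commutator Γ) Bs gH baseH fuel C.hr
    · intro s hs t
      obtain ⟨j, hj, rfl⟩ := C.hbase s hs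
      exact hsimple j hj t
    · intro i hi s hs
      exact ((C.hB i hi).cert C.hA).w_lt s hs
    · intro i hi s hs h t
      have F := C.facts R.hadd i hi
      obtain ⟨c, hc, e⟩ := R.nbar_conj F 1 one_ne_zero s hs
      have e1 : R.X s t = (R.nbar (D.simple i) 1)⁻¹ * R.X (wOf (Bs.getD i 0) s) (c * t) *
          (R.nbar (D.simple i) 1)⁻¹⁻¹ := by
        rw [← e t]
        group
      rw [e1]
      exact (inferInstance : (commutator Γ).Normal).conj_mem _ (h (c * t)) _
  rw [eq_top_iff, ← R.gen, Subgroup.closure_le]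
  rintro g ⟨r, hr, t, rfl⟩
  exact hall r hr t

include R in
/-- a root element of a root which is the sum of two roots, with one term in the commutator
formula and invertible coefficient, is a commutator -/
theorem mem_commutator_of_dec {r g d : ℕ} {c : ℤ} (hdec : Ext0.Dec D r g d c)
    (hc : ((c : ℤ) : K) ≠ 0) (t : K) : R.X r t ∈ commutator Γ := by
  obtain ⟨hg, hd, hne, hneg, hterms⟩ := hdec
  have key := R.comm g hg d hd hne hneg (-(t / ((c : ℤ) : K))) 1
  unfold ChevalleyDatum.commWord at key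
  rw [hterms, List.map_cons, List.map_nil, wordG_cons, wordG_nil, mul_one] at key
  have e : ((c : ℤ) : K) * (- -(t / ((c : ℤ) : K))) ^ 1 * (1 : K) ^ 1 = t := by
    rw [neg_neg, pow_one, pow_one, mul_one]
    field_simp
  simp only [e] at key
  have h3 : R.X r t = ⁅(R.X d 1)⁻¹, (R.X g (-(t / ((c : ℤ) : K))))⁻¹⁆ := by
    have e2 : R.X r t = (R.X g (-(t / ((c : ℤ) : K))) * R.X d 1)⁻¹ *
        (R.X d 1 * R.X g (-(t / ((c : ℤ) : K)))) := by
      rw [key]
      group
    rw [e2, commutatorElement_def]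
    group
  rw [h3]
  exact Subgroup.commutator_mem_commutator (Subgroup.mem_top _) (Subgroup.mem_top _)

include R in
/-- a root element of a root which is the first term of a commutator formula with two terms is a
product of commutators, if the root elements of the second term are -/
theorem mem_commutator_of_two {r s g d : ℕ} {c c' : ℤ} {i j : ℕ} (hg : g < D.nroots)
    (hd : d < D.nroots) (hne : d ≠ g) (hneg : d ≠ D.neg g)
    (hterms : D.commTerms g d = [(r, c, 1, 1), (s, c', i, j)])
    (hc : ((c : ℤ) : K) ≠ 0) (hs : ∀ u : K, R.X s u ∈ commutator Γ) (t : K) :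
    R.X r t ∈ commutator Γ := by
  have key := R.comm g hg d hd hne hneg (-(t / ((c : ℤ) : K))) 1
  unfold ChevalleyDatum.commWord at key
  rw [hterms, List.map_cons, List.map_cons, List.map_nil, wordG_cons, wordG_cons, wordG_nil,
    mul_one] at key
  have e : ((c : ℤ) : K) * (- -(t / ((c : ℤ) : K))) ^ 1 * (1 : K) ^ 1 = t := by
    rw [neg_neg, pow_one, pow_one, mul_one]
    field_simp
  simp only [e] at key
  obtain ⟨u, hu⟩ : ∃ u : K, u = ((c' : ℤ) : K) * (- -(t / ((c : ℤ) : K))) ^ i * (1 : K) ^ j :=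
    ⟨_, rfl⟩
  rw [← hu] at key
  have h3 : R.X r t = ⁅(R.X d 1)⁻¹, (R.X g (-(t / ((c : ℤ) : K))))⁻¹⁆ * (R.X s u)⁻¹ := by
    have e2 : R.X r t * R.X s u = (R.X g (-(t / ((c : ℤ) : K))) * R.X d 1)⁻¹ *
        (R.X d 1 * R.X g (-(t / ((c : ℤ) : K)))) := by
      rw [key]
      group
    have e3 : R.X r t = (R.X g (-(t / ((c : ℤ) : K))) * R.X d 1)⁻¹ *
        (R.X d 1 * R.X g (-(t / ((c : ℤ) : K)))) * (R.X s u)⁻¹ := by
      rw [← e2]
      group
    rw [e3, commutatorElement_def]
    group
  rw [h3]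
  exact Subgroup.mul_mem _
    (Subgroup.commutator_mem_commutator (Subgroup.mem_top _) (Subgroup.mem_top _))
    (Subgroup.inv_mem _ (hs u))

include R in
/-- the group is perfect, if some scalar has a square different from one -/
theorem rdata_perfect_sq (C : StCtx K D T Bs gH baseH fuel) (v : K) (hv0 : v ≠ 0)
    (hv1 : v ^ 2 ≠ 1) : commutator Γ = ⊤ := by
  have hv : v ^ 2 - 1 ≠ 0 := sub_ne_zero.2 hv1
  apply rdata_perfect_of_simple R C
  intro j hj t
  have h1 := (R.r1 C j hj).h_conj_x v hv0 (t / (v ^ 2 - 1))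
  have h2 : (R.r1 C j hj).x (v ^ 2 * (t / (v ^ 2 - 1)))
      = (R.r1 C j hj).x t * (R.r1 C j hj).x (t / (v ^ 2 - 1)) := by
    rw [(R.r1 C j hj).x_add]
    congr 1
    field_simp
    ring
  have h3 : R.X (D.simple j) t
      = ⁅(R.r1 C j hj).h v, (R.r1 C j hj).x (t / (v ^ 2 - 1))⁆ := by
    rw [commutatorElement_def, h1, h2, mul_inv_cancel_right]
    rfl
  rw [h3]
  exact Subgroup.commutator_mem_commutator (Subgroup.mem_top _) (Subgroup.mem_top _)

end Cfsg.Agent.StMult
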