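import Cfsg.Agent.Lib.Lead.StMult.B2F3c
import Cfsg.Agent.Lib.Lead.StMult.D4F3
import Cfsg.Agent.Lib.Lead.StMult.Perfect
import Cfsg.Agent.Lib.Lead.MSInstE6
import Cfsg.Agent.Lib.Lead.MSInstE7
import Mathlib

/-!
# The groups presented by Steinberg's relations of types `E₆`, `E₇`, `B₂`, `D₄` over a finite
field have trivial Schur multiplier (lead)

Types `E₆`, `E₇`: every field (Milnor's argument, `Lib/Lead/MSInst*`).  Types `B₂`, `D₄`: fields
with more than four elements by `Lib/Helper5/UC`, fields with three or four elements here.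
-/

set_option autoImplicit false

namespace Cfsg.Agent.StMult

open Cfsg.Lie Cfsg.Agent.Lib.Helper5.Chev Cfsg.Agent.Lib.Helper5.St Cfsg.Agent.Lib.Helper5.Tw
  Cfsg.Agent.Lib.Helper5.UC
open scoped commutatorElement

universe u u₁ u₂

section formal

variable {Δ : Type u₁} [Group Δ]

/-- a group all of whose central extensions split is centrally closed (existence part) -/
theorem lift_of_splits {G₁ : Type*} {Γ : Type u₂} [Group G₁] [Group Γ]
    (hsplit : ∀ {P : Type (max u₂ u₁)} [Group P] (ψ : P →* Δ), Function.Surjective ψ →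
      (∀ z : P, ψ z = 1 → ∀ y : P, z * y = y * z) → ∃ φ : Δ →* P, ψ.comp φ = MonoidHom.id Δ)
    (π : Γ →* G₁) (hπ : Function.Surjective π)
    (hc : π.ker ≤ Subgroup.center Γ) (ρ : Δ →* G₁) : ∃ τ : Δ →* Γ, π.comp τ = ρ := by
  have hπc : ∀ z : Γ, π z = 1 → ∀ m : Γ, z * m = m * z := by
    intro z hz m
    exact (Subgroup.mem_center_iff.1 (hc (MonoidHom.mem_ker.2 hz)) m).symm
  let P : Subgroup (Γ × Δ) :=
    (π.comp (MonoidHom.fst Γ Δ)).eqLocus (ρ.comp (MonoidHom.snd Γ Δ))
  have hP : ∀ p : ↥P, π p.1.1 = ρ p.1.2 := fun p => p.2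
  let ψ₀ : ↥P →* Δ := (MonoidHom.snd Γ Δ).comp P.subtype
  have hsurj₀ : Function.Surjective ψ₀ := by
    intro d
    obtain ⟨e, he⟩ := hπ (ρ d)
    exact ⟨⟨(e, d), he⟩, rfl⟩
  have hcentral₀ : ∀ z : ↥P, ψ₀ z = 1 → ∀ p : ↥P, z * p = p * z := by
    intro z hz p
    have hz' : z.1.2 = 1 := hz
    have h1 : π z.1.1 = 1 := by rw [hP z, hz', map_one]
    apply Subtype.ext
    apply Prod.ext
    · exact hπc _ h1 _
    · show z.1.2 * p.1.2 = p.1.2 * z.1.2
      rw [hz', one_mul, mul_one]
  obtain ⟨φ, hφ⟩ := hsplit ψ₀ hsurj₀ hcentral₀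
  refine ⟨(MonoidHom.fst Γ Δ).comp (P.subtype.comp φ), ?_⟩
  apply MonoidHom.ext
  intro d
  show π (φ d).1.1 = ρ d
  rw [hP (φ d)]
  have := DFunLike.congr_fun hφ d
  exact congrArg ρ this

end formal

section fields

variable {K : Type u} [Field K] [Fintype K]

theorem exists_ne_zero_one (h : 3 ≤ Fintype.card K) : ∃ c : K, c ≠ 0 ∧ c ≠ 1 := by
  classical
  have hlt : ({0, 1} : Finset K).card < (Finset.univ : Finset K).card := by
    rw [Finset.card_univ]
    exact lt_of_le_of_lt (Finset.card_le_two) (by omega)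
  obtain ⟨c, -, hc⟩ := Finset.exists_mem_notMem_of_card_lt_card hlt
  rw [Finset.mem_insert, Finset.mem_singleton, not_or] at hc
  exact ⟨c, hc.1, hc.2⟩

theorem exists_sq_ne_one (h : 4 ≤ Fintype.card K) : ∃ c : K, c ≠ 0 ∧ c ^ 2 ≠ 1 := by
  classical
  have hlt : ({0, 1, -1} : Finset K).card < (Finset.univ : Finset K).card := by
    rw [Finset.card_univ]
    exact lt_of_le_of_lt (Finset.card_le_three) (by omega)
  obtain ⟨c, -, hc⟩ := Finset.exists_mem_notMem_of_card_lt_card hlt
  rw [Finset.mem_insert, Finset.mem_insert, Finset.mem_singleton, not_or, not_or] at hc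
  refine ⟨c, hc.1, fun e => ?_⟩
  have h1 : (c - 1) * (c + 1) = 0 := by
    have : (c - 1) * (c + 1) = c ^ 2 - 1 := by ring
    rw [this, e, sub_self]
  rcases mul_eq_zero.1 h1 with h2 | h2
  · exact hc.2.1 (sub_eq_zero.1 h2)
  · exact hc.2.2 (eq_neg_of_add_eq_zero_left h2)

theorem two_eq_zero_of_card_four (h : Fintype.card K = 4) : (2 : K) = 0 := by
  have := Nat.cast_card_eq_zero K
  rw [h] at this
  have e : ((4 : ℕ) : K) = 2 ^ 2 := by norm_num
  rw [e] at this
  exact (pow_eq_zero_iff (two_ne_zero)).1 this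

end fields

section types

variable {K : Type u} [Field K] [Fintype K]

/-- type `D₄`, more than two scalars: the group presented by (R1), (R2) is perfect -/
theorem perfect_D4 : commutator (chevD4.SteinbergCover K) = ⊤ := by
  have hD : chevD4 ∈ [chevG2, chevB2, chevD4, chevF4, chevE6, chevE7, chevE8] := by simp
  have hA := (DtD4.uctx K).C.hA
  apply rdata_perfect_of_simple (coverRData (K := K) hD) (DtD4.uctx K).C
  intro j hj t
  have hj' : j < 4 := hj
  have h1 : ((1 : ℤ) : K) ≠ 0 := by simp
  have hm1 : ((-1 : ℤ) : K) ≠ 0 := by simp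
  interval_cases j
  · rw [d4_simple.1]
    exact mem_commutator_of_dec _ (decb_spec hA d4_dec0.1) h1 t
  · rw [d4_simple.2.1]
    exact mem_commutator_of_dec _ (decb_spec hA d4_dec1.1) hm1 t
  · rw [d4_simple.2.2.1]
    exact mem_commutator_of_dec _ (decb_spec hA d4_dec2.1) hm1 t
  · rw [d4_simple.2.2.2]
    exact mem_commutator_of_dec _ (decb_spec hA d4_dec3.1) hm1 t

/-- type `B₂`, two invertible: the group presented by (R1), (R2) is perfect -/
theorem perfect_B2_odd (h2 : (2 : K) ≠ 0) : commutator (chevB2.SteinbergCover K) = ⊤ := by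
  have hD : chevB2 ∈ [chevG2, chevB2, chevD4, chevF4, chevE6, chevE7, chevE8] := by simp
  have hA := (DtB2.uctx K).C.hA
  have h2' : ((2 : ℤ) : K) ≠ 0 := by
    push_cast
    exact h2
  obtain ⟨f7, f4, -, -⟩ := b2_long_facts
  apply rdata_perfect_of_simple (coverRData (K := K) hD) (DtB2.uctx K).C
  intro j hj t
  have hj' : j < 2 := hj
  interval_cases j
  · rw [b2_simple.1]
    exact mem_commutator_of_two _ (g := 3) (d := 6) (by decide) (by decide) (by decide)
      (by decide +kernel) b2_terms36 (by simp)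
      (fun u => mem_commutator_of_dec _ (decb_spec hA f7.1) h2' u) t
  · rw [b2_simple.2]
    exact mem_commutator_of_dec _ (decb_spec hA f4.1) h2' t

end types

section main

variable {K : Type u} [Field K] [Fintype K]

/-- types `E₆`, `E₇`, and types `B₂`, `D₄` over more than two scalars: the central extensions of
the group presented by (R1), (R2) lift every homomorphism -/
theorem cover_lift (e : ChevalleyDatum × ℕ)
    (he : e ∈ [(chevE6, 0), (chevE7, 0), (chevB2, 2), (chevD4, 2)])
    (hK : Fintype.card K ≠ e.2)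
    {Γ : Type u} [Group Γ] (σ : Γ →* e.1.SteinbergGroup K) (hs : Function.Surjective σ)
    (hc : σ.ker ≤ Subgroup.center Γ) (ρ : e.1.SteinbergCover K →* e.1.SteinbergGroup K) :
    ∃ τ : e.1.SteinbergCover K →* Γ, σ.comp τ = ρ := by
  classical
  have hcard : 2 ≤ Fintype.card K := Fintype.one_lt_card
  simp only [List.mem_cons, List.not_mem_nil, or_false] at he
  rcases he with rfl | rfl | rfl | rfl
  · exact lift_of_splits (fun ψ h1 h2 => Cfsg.Agent.MilnorStein.cover_splits_E6 ψ h1 h2) σ hs hc ρ
  · exact lift_of_splits (fun ψ h1 h2 => Cfsg.Agent.MilnorStein.cover_splits_E7 ψ h1 h2) σ hs hc ρ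
  · -- type B₂
    have hK' : Fintype.card K ≠ 2 := hK
    by_cases h3 : Fintype.card K = 3
    · obtain ⟨-, h111⟩ := field_three h3
      have h2 : (2 : K) ≠ 0 := by
        intro e
        have : (1 : K) + 1 + 1 = 2 + 1 := by norm_num
        rw [this, e, zero_add] at h111
        exact one_ne_zero h111
      exact (cover_universal_of_lifts (DtB2.uctx K) (perfect_B2_odd h2) (lifts_B2_three h3)
        σ hs hc ρ).exists
    by_cases h4 : Fintype.card K = 4
    · have h2 := two_eq_zero_of_card_four h4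
      obtain ⟨c, hc0, hc1⟩ := exists_ne_zero_one (K := K) (by omega)
      have hsq : c ^ 2 ≠ 1 := by
        intro e
        apply hc1
        have h3 : (c - 1) ^ 2 = 0 := by
          have : (c - 1) ^ 2 = c ^ 2 - 2 * c + 1 := by ring
          rw [this, e, h2, zero_mul, sub_zero]
          have : (1 : K) + 1 = 2 := by norm_num
          rw [this, h2]
        exact sub_eq_zero.1 ((pow_eq_zero_iff (two_ne_zero)).1 h3)
      have hperf : commutator (chevB2.SteinbergCover K) = ⊤ :=
        rdata_perfect_sq (coverRData (K := K) (by simp)) (DtB2.uctx K).C c hc0 hsq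
      exact (cover_universal_of_lifts (DtB2.uctx K) hperf (lifts_B2_char_two h2 c hc0 hc1)
        σ hs hc ρ).exists
    · have h5 : ∃ s : Finset K, 4 < s.card := ⟨Finset.univ, by rw [Finset.card_univ]; omega⟩
      exact (cover_universal h5 chevB2 (by simp) σ hs hc ρ).exists
  · -- type D₄
    have hK' : Fintype.card K ≠ 2 := hK
    by_cases h3 : Fintype.card K = 3
    · exact (cover_universal_of_lifts (DtD4.uctx K) perfect_D4 (lifts_D4_three h3)
        σ hs hc ρ).exists
    · obtain ⟨c, hc0, hsq⟩ := exists_sq_ne_one (K := K) (by omega)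
      exact (cover_universal_of_lifts (DtD4.uctx K) perfect_D4 (lifts_D4_sq c hc0 hsq)
        σ hs hc ρ).exists

/-- Steinberg: over a finite field the groups presented by the relations (R1)–(R3) of types
`E₆`, `E₇`, and of types `B₂`, `D₄` over more than two scalars, have trivial Schur multiplier -/
theorem steinberg_multiplier_trivial (e : ChevalleyDatum × ℕ)
    (he : e ∈ [(chevE6, 0), (chevE7, 0), (chevB2, 2), (chevD4, 2)])
    (hK : Fintype.card K ≠ e.2) : Cfsg.HasCyclicSchurMultiplier (e.1.SteinbergGroup K) 1 := by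
  have hD : e.1 ∈ [chevG2, chevB2, chevD4, chevF4, chevE6, chevE7, chevE8] := by
    simp only [List.mem_cons, List.not_mem_nil, or_false] at he
    rcases he with rfl | rfl | rfl | rfl <;> simp
  apply multiplier_trivial_of_universal hD
  intro Γ _ σ hs hc ρ
  exact cover_lift e he hK σ hs hc ρ

end main

end Cfsg.Agent.StMult
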