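import Cfsg.Agent.Lib.Lead.StMult.Fam
import Mathlib

/-!
# The canonical lifts of the root elements defined by torus elements (lead)

For a root `r`, a torus element `h` which acts on the root subgroup of `r` by a scalar `χ ≠ 1`
gives the lift `[ĥ, x̂_r(t / (χ - 1))]` of `x_r(t)`; it does not depend on the choices, provided
that the lifts of the elements of the root subgroup of `r` commute.
-/

set_option autoImplicit false

namespace Cfsg.Agent.StMult

open Cfsg.Lie Cfsg.Agent.Lib.Helper5.Chev Cfsg.Agent.Lib.Helper5.St Cfsg.Agent.Lib.Helper5.Tw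
  Cfsg.Agent.Lib.Helper5.UC
open scoped commutatorElement

namespace Ext0

variable {K : Type*} [Field K] {D : ChevalleyDatum} {E : Type*} [Group E] (X : Ext0 K D E)

/-- a chosen lift -/
noncomputable def lf (g : GL D.Idx K) : E := by
  classical
  exact if h : ∃ e, X.Ψ e = g then h.choose else 1

theorem lf_spec (g : GL D.Idx K) (hg : g ∈ D.group K) : X.Ψ (X.lf g) = g := by
  have h := X.hsurj g hg
  unfold lf
  rw [dif_pos h]
  exact h.choose_spec

theorem map_lf_x (r : ℕ) (t : K) : X.Ψ (X.lf (X.x r t)) = X.x r t :=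
  X.lf_spec _ (X.hadd.xU_mem_group r t)

theorem map_lf_diag (h : GL D.Idx K) (hh : h ∈ D.diagonalSubgroup K) : X.Ψ (X.lf h) = h :=
  X.lf_spec _ (X.hadd.diagonal_le hh)

/-- the lift of `x_r(t)` defined by the torus element `h`, which acts by `χ` -/
noncomputable def Yt (h : GL D.Idx K) (χ : K) (r : ℕ) (t : K) : E :=
  ⁅X.lf h, X.lf (X.x r (t / (χ - 1)))⁆

/-- the torus element `h` acts on the root subgroup of `r` by the scalar `χ ≠ 1` -/
structure TorOK (h : GL D.Idx K) (χ : K) (r : ℕ) : Prop where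
  mem : h ∈ D.diagonalSubgroup K
  ne : χ ≠ 1
  conj : ∀ t, h * X.x r t * h⁻¹ = X.x r (χ * t)

section root

variable {h : GL D.Idx K} {χ : K} {r : ℕ} (hok : X.TorOK h χ r) (hr : r < D.nroots)
  (hSR : X.SR r)

include hok in
theorem map_lf_conj (t : K) :
    X.Ψ (X.lf h) * X.x r t * (X.Ψ (X.lf h))⁻¹ = X.x r (χ * t) := by
  rw [X.map_lf_diag h hok.mem]
  exact hok.conj t

include hok hSR in
/-- the lift does not depend on the torus element -/
theorem Yt_eq (a b : E) (h' : GL D.Idx K) (χ' : K) (hok' : X.TorOK h' χ' r) (ha : X.Ψ a = h')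
    (t : K) (hb : X.Ψ b = X.x r (t / (χ' - 1))) : ⁅a, b⁆ = X.Yt h χ r t := by
  have hχ' : χ' - 1 ≠ 0 := sub_ne_zero.2 hok'.ne
  have hv : χ - 1 ≠ 0 := sub_ne_zero.2 hok.ne
  unfold Yt
  apply comm_tor_indep X.Ψ X.hc (X.x r) (X.x_add r) hSR (X.lift_x r) a (X.lf h) ?_ χ'
    χ ?_ (X.map_lf_conj hok) b _ (t / ((χ' - 1) * (χ - 1))) ?_ ?_
  · rw [ha, X.map_lf_diag h hok.mem]
    exact Cfsg.Agent.Lib.Helper5.Frob.diag_commute X.hD _ _ hok'.mem hok.mem
  · intro t'
    rw [ha]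
    exact hok'.conj t'
  · rw [hb]
    congr 1
    field_simp
  · rw [X.map_lf_x]
    congr 1
    field_simp

include hok in
theorem map_Yt (t : K) : X.Ψ (X.Yt h χ r t) = X.x r t := by
  unfold Yt
  rw [map_comm_tor X.Ψ (X.x r) (X.x_add r) _ _ (X.map_lf_conj hok) _ _ (X.map_lf_x r _)]
  congr 1
  have hv : χ - 1 ≠ 0 := sub_ne_zero.2 hok.ne
  field_simp

include hok hSR in
theorem Yt_add (t u : K) : X.Yt h χ r t * X.Yt h χ r u = X.Yt h χ r (t + u) := by
  unfold Yt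
  rw [← comm_tor_add X.Ψ (X.x r) (X.x_add r) hSR _ _ (X.map_lf_conj hok) _ _ _ _
    (X.map_lf_x r _) (X.map_lf_x r _)]
  apply comm_congr X.Ψ X.hc rfl
  rw [map_mul, X.map_lf_x, X.map_lf_x, X.map_lf_x, ← X.x_add, add_div]

include hok hSR in
/-- conjugation of the lift by a lift of a torus element -/
theorem Yt_tor (a : E) (h' : GL D.Idx K) (hh' : h' ∈ D.diagonalSubgroup K) (χ' : K)
    (hχ' : ∀ t, h' * X.x r t * h'⁻¹ = X.x r (χ' * t)) (ha : X.Ψ a = h') (t : K) :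
    a * X.Yt h χ r t * a⁻¹ = X.Yt h χ r (χ' * t) := by
  have e : a * X.Yt h χ r t * a⁻¹ = ⁅a * X.lf h * a⁻¹,
      a * X.lf (X.x r (t / (χ - 1))) * a⁻¹⁆ := conj_comm _ _ _
  rw [e]
  apply X.Yt_eq hok hSR _ _ h χ hok
  · rw [map_mul, map_mul, map_inv, ha, X.map_lf_diag h hok.mem,
      Cfsg.Agent.Lib.Helper5.Frob.diag_commute X.hD _ _ hh' hok.mem, mul_assoc, mul_inv_cancel,
      mul_one]
  · rw [map_mul, map_mul, map_inv, ha, X.map_lf_x, hχ', mul_div_assoc]

end root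

variable {T : FD} {Bs : List ℕ} {gH : ℕ} {baseH : List ℕ} {fuel : ℕ}
  (C : StCtx K D T Bs gH baseH fuel)

include C in
/-- conjugation of the lift by a lift of `n_i` -/
theorem Yt_n (i : ℕ) (hi : i < D.rank) {h h' : GL D.Idx K} {χ χ' : K} {r : ℕ}
    (hr : r < D.nroots) (hok : X.TorOK h χ r) (hok' : X.TorOK h' χ' (wOf (Bs.getD i 0) r))
    (hSR' : X.SR (wOf (Bs.getD i 0) r)) (n : E) (hn : X.Ψ n = nUi C.hA X.hadd i) (t : K) :
    n * X.Yt h χ r t * n⁻¹
      = X.Yt h' χ' (wOf (Bs.getD i 0) r) (((etaOf (Bs.getD i 0) r : ℤ) : K) * t) := by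
  have hcert := (C.hB i hi).cert C.hA
  have hwr := hcert.w_lt r hr
  have hη := hcert.eta_sq (F := K) r hr
  have hnorm := nUi_mem_normalizer C.hA X.hadd hi (C.hB i hi) (hform_all' D X.hD)
  have e : n * X.Yt h χ r t * n⁻¹ = ⁅n * X.lf h * n⁻¹,
      n * X.lf (X.x r (t / (χ - 1))) * n⁻¹⁆ := conj_comm _ _ _
  rw [e]
  have hh : nUi C.hA X.hadd i * h * (nUi C.hA X.hadd i)⁻¹ ∈ D.diagonalSubgroup K :=
    (Subgroup.mem_normalizer_iff.1 hnorm _).1 hok.mem
  apply X.Yt_eq hok' hSR' _ _ _ χ ⟨hh, hok.ne, ?_⟩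
  · rw [map_mul, map_mul, map_inv, hn, X.map_lf_diag h hok.mem]
  · rw [map_mul, map_mul, map_inv, hn, X.map_lf_x, X.n_conj C i hi r hr, mul_div_assoc]
  · intro t'
    have h1 : (nUi C.hA X.hadd i)⁻¹ * X.x (wOf (Bs.getD i 0) r) t' * nUi C.hA X.hadd i
        = X.x r (((etaOf (Bs.getD i 0) r : ℤ) : K) * t') := by
      have := conjU' C.hA X.hadd hi (C.hB i hi) (wOf (Bs.getD i 0) r) hwr t'
      rw [hcert.w_w r hr] at this
      exact this
    calc nUi C.hA X.hadd i * h * (nUi C.hA X.hadd i)⁻¹ * X.x (wOf (Bs.getD i 0) r) t' *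
          (nUi C.hA X.hadd i * h * (nUi C.hA X.hadd i)⁻¹)⁻¹
        = nUi C.hA X.hadd i * (h * ((nUi C.hA X.hadd i)⁻¹ * X.x (wOf (Bs.getD i 0) r) t' *
            nUi C.hA X.hadd i) * h⁻¹) * (nUi C.hA X.hadd i)⁻¹ := by group
      _ = X.x (wOf (Bs.getD i 0) r) (χ * t') := by
        rw [h1, hok.conj, X.n_conj C i hi r hr]
        congr 1
        calc ((etaOf (Bs.getD i 0) r : ℤ) : K) * (χ * (((etaOf (Bs.getD i 0) r : ℤ) : K) * t'))
            = (((etaOf (Bs.getD i 0) r : ℤ) : K) * ((etaOf (Bs.getD i 0) r : ℤ) : K)) *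
              (χ * t') := by ring
          _ = χ * t' := by rw [hη, one_mul]

/-- the family of lifts defined by torus elements, one for each root -/
noncomputable def torFam (hr : ℕ → GL D.Idx K) (chi : ℕ → K)
    (hok : ∀ r < D.nroots, X.TorOK (hr r) (chi r) r) (hSR : ∀ r < D.nroots, X.SR r) :
    Fam X C where
  Y := fun r t => X.Yt (hr r) (chi r) r t
  map_Y := fun r hlt t => X.map_Yt (hok r hlt) t
  add := fun r hlt t u => X.Yt_add (hok r hlt) (hSR r hlt) t u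
  tor := fun r hlt a h hh χ hχ ha t => X.Yt_tor (hok r hlt) (hSR r hlt) a h hh χ hχ ha t
  nconj := fun i hi r hlt n hn t =>
    X.Yt_n C i hi hlt (hok r hlt) (hok _ (((C.hB i hi).cert C.hA).w_lt r hlt))
      (hSR _ (((C.hB i hi).cert C.hA).w_lt r hlt)) n hn t

/-- the torus element `h_a(c)` acts on the root subgroup of `r` by `c ^ ⟨r, a^∨⟩` -/
theorem torOK_hU {a r : ℕ} (ha : a < D.nroots) (hr : r < D.nroots) (c : K) (hc0 : c ≠ 0)
    (h1 : c ^ pairD D a r ≠ 1) : X.TorOK (X.hU a c) (c ^ pairD D a r) r :=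
  ⟨X.hU_mem a ha c hc0, h1, fun t => X.hU_conj a r ha hr c hc0 t⟩

end Ext0

end Cfsg.Agent.StMult
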